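import Cfsg.Agent.FusionZJ.SmallControl
import Cfsg.Agent.Fusion.NormalizerSat
import Cfsg.Agent.Fusion.Saturation
import Cfsg.Agent.S0065

/-!
Small exponent abelian subgroups of the hyperfocal subgroup control a saturated system.
-/

set_option autoImplicit false
set_option linter.style.haveILetI false

namespace Cfsg.Agent.FusionZJ

open Cfsg Cfsg.FusionSystem Cfsg.Agent Cfsg.Agent.Fusion
open scoped commutatorElement

universe u

variable {Ω : Type u} [Group Ω] {S : Subgroup Ω} {F : FusionSystem S} {p : ℕ}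

/-- A map agrees on `A` with the conjugation by an element of `N_S(A)`. -/
def ActsAsS (S A : Subgroup Ω) (f : Ω → Ω) : Prop :=
  ∃ s ∈ normalizerIn S A, ∀ x ∈ A, f x = cj s x

theorem actsAsS_stabCond (A : Subgroup Ω) : StabCond A (ActsAsS S A) where
  congr := fun e ⟨s, hs, h⟩ => ⟨s, hs, fun x hx => (e x hx).symm.trans (h x hx)⟩
  image := fun {f} ⟨s, hs, h⟩ => by
    rw [Set.image_congr h]
    ext y
    exact ⟨fun ⟨x, hx, e⟩ => e ▸ (cj_mem_iff hs.2 x).mpr hx,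
      fun hy => ⟨cj s⁻¹ y, (cj_mem_iff (inv_mem hs.2) y).mpr hy, cj_cancel_inv s y⟩⟩
  comp := fun {f g} ⟨s, hs, h⟩ ⟨t, ht, k⟩ => ⟨t * s, mul_mem ht hs, fun x hx => by
    show g (f x) = _
    rw [h x hx, k _ ((cj_mem_iff hs.2 x).mpr hx), cj_mul]⟩
  inv := fun {f g} ⟨s, hs, h⟩ e => ⟨s⁻¹, inv_mem hs, fun x hx => by
    have hy := (cj_mem_iff (inv_mem hs.2) x).mpr hx
    have h1 := e _ hy
    rw [h _ hy, cj_cancel_inv] at h1
    exact h1⟩
  id' := ⟨1, one_mem _, fun x _ => by rw [cj_one]; rfl⟩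

/-- The maps of `F` over `N_S(A)` acting on `A` as elements of `S`. -/
theorem exists_actsAsSystem [Finite S] (F : FusionSystem S) {A : Subgroup Ω} (hA : A ≤ S) :
    ∃ M : FusionSystem (normalizerIn S A), ∀ P f, Mor M P f ↔ P ≤ normalizerIn S A ∧
      (∀ x ∈ P, f x ∈ normalizerIn S A) ∧
      ∃ g, Mor F (P ⊔ A) g ∧ (∀ x ∈ P, g x = f x) ∧ ActsAsS S A g := by
  haveI := finite_of_le hA
  have hSt := actsAsS_stabCond (S := S) A
  let C : (P : Subgroup Ω) → (P →* Ω) → Prop := fun P φ =>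
    ∃ g, Mor F (P ⊔ A) g ∧ (∀ x : P, g x = φ x) ∧ ActsAsS S A g
  refine ⟨subsystem F (normalizerIn S A) C (fun {P s} hP hs => ?_) (fun {P R φ ψ} _ _ _ _ a b h => ?_)
    (fun {P φ} _ _ _ a ψ _ e => ?_), fun P f => ?_⟩
  · exact ⟨F.conj_mem (hP.trans normalizerIn_le) hs.1,
      cj s, Mor.conj (sup_le (hP.trans normalizerIn_le) hA) hs.1, fun _ => rfl, s, hs, fun _ _ => rfl⟩
  · obtain ⟨f, hf, ef, sf⟩ := a
    obtain ⟨g, hg, eg, sg⟩ := b
    have hm := hf.map_sup (T := R ⊔ A) (fun x hx => Subgroup.mem_sup_left (ef ⟨x, hx⟩ ▸ h ⟨x, hx⟩))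
      (fun x hx => Subgroup.mem_sup_right (hSt.mem sf hx))
    refine ⟨g ∘ f, hf.comp hg hm, fun x => ?_, hSt.comp sf sg⟩
    show g (f x) = ψ ⟨φ x, h x⟩
    rw [ef x, ← eg]
  · obtain ⟨f, hf, ef, sf⟩ := a
    obtain ⟨f', hf', e1, -⟩ := hf.toIso.exists_symm
    have hsub : φ.range ⊔ A ≤ hf.img := by
      refine sup_le ?_ fun y hy => ?_
      · rintro _ ⟨x, rfl⟩
        exact hf.mem_img.mpr ⟨x, Subgroup.mem_sup_left x.2, ef x⟩
      · obtain ⟨x, hx, rfl⟩ := (hSt.image sf).ge hy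
        exact hf.mem_img.mpr ⟨x, Subgroup.mem_sup_right hx, rfl⟩
    refine ⟨f', hf'.mor.restrict hsub, ?_, hSt.inv sf fun x hx => e1 x (Subgroup.mem_sup_right hx)⟩
    rintro ⟨_, x, rfl⟩
    show f' (φ x) = _
    rw [e x, ← ef x, e1 x (Subgroup.mem_sup_left x.2)]
  · constructor
    · rintro ⟨φ, ⟨-, hP, hv, g, hg, eg, sg⟩, e⟩
      exact ⟨hP, fun x hx => e ⟨x, hx⟩ ▸ hv ⟨x, hx⟩, g, hg, fun x hx => (eg ⟨x, hx⟩).trans (e ⟨x, hx⟩), sg⟩
    · rintro ⟨hP, hv, g, hg, eg, sg⟩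
      have hm : Mor F P f := (hg.restrict le_sup_left).congr eg
      exact ⟨hm.hom, ⟨hm.hom_mem, hP, fun x => hv x x.2, g, hg, fun x => eg x x.2, sg⟩, fun _ => rfl⟩

variable [Fact p.Prime] [Finite S]

theorem actsAsSystem_saturated (hS : IsPGroup p S) (hF : F.IsSaturated p) {A : Subgroup Ω}
    (hA : F.IsFullyCentralized A) {M : FusionSystem (normalizerIn S A)}
    (hM : ∀ P f, Mor M P f ↔ P ≤ normalizerIn S A ∧ (∀ x ∈ P, f x ∈ normalizerIn S A) ∧
      ∃ g, Mor F (P ⊔ A) g ∧ (∀ x ∈ P, g x = f x) ∧ ActsAsS S A g) : M.IsSaturated p := by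
  refine stab_saturated hS hF hA.1 (actsAsS_stabCond A)
    (fun s => ⟨fun (h : s ∈ normalizerIn S A) => ⟨h.1, h.2, s, h, fun _ _ => rfl⟩, fun h => (⟨h.1, h.2.1⟩ : s ∈ normalizerIn S A)⟩) hM ?_
  intro R χ χ' hχ hl
  obtain ⟨χ₂, hχ₂, hl₂, hr₂⟩ := hχ.exists_symm
  obtain ⟨g, hg, eg⟩ :=
    (receptive_iff.mp (IsSaturated_fullyCentralized_receptive hS hF hA)).2 R χ₂ hχ₂
  refine ⟨nphi S R χ₂, g, hχ₂.mor.le_nphi, fun s hs hsn hst => mem_nphi.mpr ⟨hs, hsn, ?_⟩, hg,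
    1, one_mem _, fun x hx => ?_⟩
  · obtain ⟨t, ht, htx⟩ := hst
    refine ⟨t, ht.1, fun y hy => ?_⟩
    obtain ⟨x, hx, rfl⟩ := hχ.surj hy
    obtain ⟨z, hz, hze⟩ := hχ.surj ((cj_mem_iff hsn _).mpr (hχ.mapsTo hx))
    have h1 : χ' (cj s (χ x)) = cj t x := htx x hx
    rw [← hze, hl z hz] at h1
    rw [hl₂ x hx, ← hze, hl₂ z hz, h1]
  · show g (χ x) = cj 1 x
    rw [eg _ (hχ.mapsTo hx), hl₂ x hx, cj_one]

/-- A saturated subsystem with the same maps on abelian subgroups of small exponent of the hyperfocal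
subgroup contains all maps. -/
theorem mor_of_small_agree (hS : IsPGroup p S) (hF : F.IsSaturated p) {E : FusionSystem S}
    (hE : E.IsSaturated p) (hEF : E ≤ F)
    (hag : ∀ (A : Subgroup Ω) (f : Ω → Ω), A ≤ F.hyperfocalSubgroup p → IsMulCommutative A →
      (∀ a ∈ A, a ^ (if p = 2 then 4 else p) = 1) → Mor F A f → Mor E A f) :
    ∀ P f, Mor F P f → Mor E P f := by
  set H := F.hyperfocalSubgroup p with hHdef
  set q := if p = 2 then 4 else p with hq
  have hHsc : F.StronglyClosed H := hyperfocal_stronglyClosed hS hF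
  suffices key : ∀ (k : ℕ) (A : Subgroup Ω), Nat.card S - Nat.card A = k → A ≤ H → IsMulCommutative A →
      (∀ a ∈ A, a ^ q = 1) → F.IsFullyNormalized A →
      ∀ P f, Mor F P f → A ≤ P → P ≤ normalizerIn S A → (∀ a ∈ A, f a = a) → Mor E P f by
    intro P f hf
    refine key _ ⊥ rfl bot_le inferInstance (fun a ha => by rw [Subgroup.mem_bot.mp ha, one_pow])
      ⟨bot_le, fun Q hQ => ?_⟩ P f hf bot_le
      (fun x hx => ⟨hf.dom_le hx, by
        rw [Subgroup.normalizer_eq_top_iff.mpr inferInstance]; trivial⟩)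
      fun a ha => by rw [Subgroup.mem_bot.mp ha, hf.map_one]
    have hle : normalizerIn S (⊥ : Subgroup Ω) = S := inf_eq_left.mpr (by
      rw [Subgroup.normalizer_eq_top_iff.mpr inferInstance]; exact le_top)
    rw [hle]
    exact card_le_of_le normalizerIn_le
  intro k
  induction k using Nat.strong_induction_on with
  | _ k IH =>
  intro A hk hAH hAc hAq hAn P f hf hAP hPN hfix
  haveI := hAc
  have hAS := hAn.1
  haveI := finite_of_le hAS
  obtain ⟨hAfc, -, -⟩ := IsSaturated_fullyNormalized hS hF hAn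
  obtain ⟨M, hM⟩ := exists_actsAsSystem F hAS
  have hNS : (normalizerIn S A) ≤ S := normalizerIn_le
  haveI := finite_of_le hNS
  have hNp : IsPGroup p (normalizerIn S A) := hS.to_le hNS
  have hMsat := actsAsSystem_saturated hS hF hAfc hM
  have hAN : A ≤ (normalizerIn S A) := fun a ha => ⟨hAS ha, Subgroup.le_normalizer ha⟩
  have hMnormal : M.IsNormal A := isNormal_of_extStab hAN fun R g hg => by
    obtain ⟨hR, hv, g', hg', e, sg⟩ := (hM R g).mp hg
    have hmem : ∀ x ∈ A, g' x ∈ A := fun x hx => (actsAsS_stabCond A).mem sg hx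
    refine ⟨g', (hM _ g').mpr ⟨sup_le hR hAN, hg'.map_sup (fun x hx => e x hx ▸ hv x hx)
      (fun x hx => hAN (hmem x hx)), g', ?_, fun _ _ => rfl, sg⟩, e, hmem⟩
    rwa [sup_assoc, sup_idem]
  have hMF : ∀ {R g}, Mor M R g → Mor F R g := fun {R g} h => by
    obtain ⟨-, -, g', hg', e, -⟩ := (hM R g).mp h
    exact (hg'.restrict le_sup_left).congr e
  -- `f` belongs to the local system
  have hfM : Mor M P f := by
    refine (hM P f).mpr ⟨hPN, fun x hx => ⟨hf.map_mem hx, Subgroup.mem_normalizer_fintype fun a ha => ?_⟩,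
      f, ?_, fun _ _ => rfl, 1, one_mem _, fun a ha => by rw [hfix a ha, cj_one]⟩
    · have hm : cj x a ∈ A := (cj_mem_iff (hPN hx).2 a).mpr ha
      show cj (f x) a ∈ A
      have h1 := hf.map_conj hx (hAP ha)
      rw [hfix a ha] at h1
      show f x * a * (f x)⁻¹ ∈ A
      rw [← h1]
      show f (cj x a) ∈ A
      rw [hfix _ hm]
      exact hm
    · rwa [sup_eq_left.mpr hAP]
  refine alperin hNp hMsat (C := fun P f => Mor E P f)
    ⟨fun hP hs => Mor.conj (hP.trans hNS) (hNS hs), fun _ e h => h.congr e,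
      fun _ _ m h h' => h.comp h' m, fun {P Q f g} hf hg e h => ?_⟩ ?_ P f hfM
  · obtain ⟨g', hg', hgf, -⟩ := Iso.exists_symm (F := E) (f := f) (P := P) (Q := Q) ⟨h, hf.bij⟩
    refine hg'.mor.congr fun y hy => ?_
    obtain ⟨x, hx, rfl⟩ := hf.surj hy
    rw [hgf x hx, e x hx]
  intro R hR hRn _ g hg
  haveI := finite_of_le hRn.1
  have hAR : A ≤ R := hR.elim (fun e => e ▸ hAN) fun h =>
    isNormal_le_centricRadical hNp hMnormal h.1 (essential_radical hNp h)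
  have hRS : R ≤ S := hRn.1.trans hNS
  obtain ⟨C, hC, hsmall, hCinv, hfaith⟩ := exists_small_subgroup hS hF hRS
  have hCR : C ≤ R := hC.trans inf_le_left
  have hCH : C ≤ H := hC.trans inf_le_right
  have hCq : ∀ x ∈ C, x ^ q = 1 := fun x hx => by
    rcases hsmall x hx with h | ⟨h2, h4⟩
    · rw [hq]; split_ifs with h2
      · subst h2; rw [show (4 : ℕ) = 2 * 2 from rfl, pow_mul, h, one_pow]
      · exact h
    · rw [hq, if_pos h2, h4]
  have hCn : R ≤ Subgroup.normalizer (C : Set Ω) := fun r hr => by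
    haveI := finite_of_le (hCR.trans hRS)
    refine Subgroup.mem_normalizer_fintype (S := (C : Set Ω)) fun x hx => ?_
    have h1 := hCinv ⟨MulAut.conj (⟨r, hr⟩ : R), inn_le_autGroup hRS ⟨_, rfl⟩⟩ ⟨x, hCR hx⟩ hx
    exact h1
  by_cases hbig : C ⊓ Subgroup.centralizer (A : Set Ω) ≤ A
  · -- only `S` acts
    haveI := finite_mulAut (G := R)
    have hall : IsPGroup p (⊤ : Subgroup (M.autGroup R)) := by
      refine Core.ThompsonComplement.isPGroup_of_forall_coprime fun α _ hα => ?_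
      obtain ⟨a, ha, ea⟩ := (mem_autGroup_iff hRn.1).mp α.2
      obtain ⟨-, -, a', ha', e', sa'⟩ := (hM R a).mp ha.mor
      obtain ⟨s, hs, hsa⟩ := sa'
      have hres : ∀ x : R, (x : Ω) ∈ A → (((α : MulAut R) x : R) : Ω) = cj s x := fun x hx => by
        rw [← ea x, ← e' x x.2]; exact hsa x hx
      obtain ⟨j, hj⟩ := hS ⟨s, hs.1⟩
      have hsj : s ^ p ^ j = 1 := congrArg Subtype.val hj
      have hiter : ∀ (n : ℕ) (x : R), (x : Ω) ∈ A →
          ((((α : MulAut R) ^ n) x : R) : Ω) = cj (s ^ n) x ∧ cj (s ^ n) x ∈ A := by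
        intro n
        induction n with
        | zero => intro x hx; simp [cj_one, hx]
        | succ n ih =>
          intro x hx
          obtain ⟨h1, h2⟩ := ih x hx
          refine ⟨?_, ?_⟩
          · rw [pow_succ', MulAut.mul_apply, hres _ (h1 ▸ h2), h1, pow_succ', cj_mul]
          · rw [pow_succ', cj_mul]; exact (cj_mem_iff hs.2 _).mpr h2
      have hfixA : ∀ x : R, (x : Ω) ∈ A → (α : MulAut R) x = x := by
        intro x hx
        have hmemK : ∀ m : ℕ, cj (s ^ m) x = x → s ^ m ∈ Subgroup.centralizer ({(x : Ω)} : Set Ω) := fun m h =>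
          Subgroup.mem_centralizer_singleton_iff.mpr (mul_inv_eq_iff_eq_mul.mp h)
        have h1 := hmemK (orderOf α) (by
          rw [← (hiter _ x hx).1, ← Subgroup.coe_pow, pow_orderOf_eq_one]; rfl)
        have h2 := hmemK (p ^ j) (by rw [hsj, cj_one])
        have hb := Nat.gcd_eq_gcd_ab (orderOf α) (p ^ j)
        rw [(hα.pow_right j).gcd_eq_one] at hb
        push_cast at hb
        have h3 : s ∈ Subgroup.centralizer ({(x : Ω)} : Set Ω) := by
          have h4 := mul_mem (zpow_mem h1 ((orderOf α).gcdA (p ^ j))) (zpow_mem h2 ((orderOf α).gcdB (p ^ j)))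
          rw [← zpow_natCast, ← zpow_mul, ← zpow_natCast s (p ^ j), ← zpow_mul, ← zpow_add] at h4
          push_cast at h4
          rwa [← hb, zpow_one] at h4
        refine Subtype.ext ?_
        rw [hres x hx]
        exact mul_inv_eq_iff_eq_mul.mpr (Subgroup.mem_centralizer_singleton_iff.mp h3)
      have hαF : (α : MulAut R) ∈ F.autGroup R :=
        (autGroup_set_eq hRS).mpr (mem_of_mor (hMF ha.mor) fun x => (ea x).symm)
      have hcop : (orderOf (⟨_, hαF⟩ : F.autGroup R)).Coprime p := by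
        rw [← Subgroup.orderOf_coe, show ((⟨_, hαF⟩ : F.autGroup R) : MulAut R) = (α : MulAut R) from rfl, Subgroup.orderOf_coe]; exact hα
      have h5 := hfaith ⟨_, hαF⟩ hcop fun c hc => by
        refine OddLocal.RankTwo.fix_of_shift (hS.to_le hRS) _ (by rw [show ((⟨_, hαF⟩ : F.autGroup R) : MulAut R) = (α : MulAut R) from rfl, Subgroup.orderOf_coe]; exact hα) ?_
        refine hfixA _ (hbig ⟨C.mul_mem (C.inv_mem hc) (hCinv ⟨_, hαF⟩ c hc), fun y hy => ?_⟩)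
        have hy' : cj (c : Ω) y ∈ A := (cj_mem_iff (hRn.1 c.2).2 y).mpr hy
        have h6 := hfixA (c * (⟨y, hAR hy⟩ : R) * c⁻¹) hy'
        rw [map_mul, map_mul, map_inv, hfixA ⟨y, hAR hy⟩ hy] at h6
        have h7 : (((α : MulAut R) c : R) : Ω) * y * (((α : MulAut R) c : R) : Ω)⁻¹ = c * y * (c : Ω)⁻¹ :=
          congrArg Subtype.val h6
        show y * ((c : Ω)⁻¹ * (((α : MulAut R) c : R) : Ω)) = (c : Ω)⁻¹ * (((α : MulAut R) c : R) : Ω) * y
        calc y * ((c : Ω)⁻¹ * (((α : MulAut R) c : R) : Ω))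
            = (c : Ω)⁻¹ * ((c : Ω) * y * (c : Ω)⁻¹) * (((α : MulAut R) c : R) : Ω) := by group
          _ = _ := by rw [← h7]; group
      exact Subtype.ext (congrArg Subtype.val h5 :)
    obtain ⟨-, hAut, -⟩ := IsSaturated_fullyNormalized hNp hMsat hRn
    have hidx := ((fullyAutomized_iff hNp).mp hAut).2
    have htop : (autInducedBy (normalizerIn S A) R).subgroupOf (M.autGroup R) = ⊤ := by
      obtain ⟨m, hm⟩ := (hall.of_equiv Subgroup.topEquiv).index ((autInducedBy (normalizerIn S A) R).subgroupOf (M.autGroup R))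
      rcases m with _ | m
      · exact Subgroup.index_eq_one.mp (by rw [hm, pow_zero])
      · exact absurd (hm ▸ dvd_pow_self p m.succ_ne_zero) hidx
    obtain ⟨t, ht, -, et⟩ := mem_autInducedBy.mp (show (hg.equiv : MulAut R) ∈ autInducedBy (normalizerIn S A) R from
      htop.ge (Subgroup.mem_top (⟨_, hg.equiv_mem_autGroup⟩ : M.autGroup R)))
    exact (Mor.conj hRS (hNS ht)).congr fun x hx => (et ⟨x, hx⟩).symm
  -- a larger abelian subgroup normal in `R`
  have hAn' : ∀ r ∈ R, r ∈ Subgroup.normalizer (A : Set Ω) := fun r hr => (hRn.1 hr).2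
  set W : Subgroup Ω := A ⊔ (C ⊓ Subgroup.centralizer (A : Set Ω)) with hW
  have hWR : W ≤ R := sup_le hAR (inf_le_left.trans hCR)
  haveI hnA : (A.subgroupOf R).Normal := ⟨fun y hy r => (cj_mem_iff (hAn' r r.2) y).mpr hy⟩
  haveI hnW : (W.subgroupOf R).Normal := ⟨fun y hy r => by
    have hle : W ≤ W.comap (MulAut.conj (r : Ω)).toMonoidHom := sup_le
      (fun a ha => Subgroup.mem_sup_left ((cj_mem_iff (hAn' r r.2) a).mpr ha))
      fun c hc => Subgroup.mem_sup_right ⟨(cj_mem_iff (hCn r.2) c).mpr hc.1, fun a ha => by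
        have ha' := (cj_mem_iff (inv_mem (hAn' r r.2)) a).mpr ha
        show a * cj (r : Ω) c = cj (r : Ω) c * a
        rw [show a = cj (r : Ω) (cj (r : Ω)⁻¹ a) from (cj_cancel_inv _ _).symm, ← cj_map_mul, ← cj_map_mul,
          hc.2 _ ha']⟩
    exact hle hy⟩
  have hRp : IsPGroup p R := hS.to_le hRS
  haveI : Group.IsNilpotent (R ⧸ A.subgroupOf R) := (hRp.to_quotient _).isNilpotent
  haveI := hnW.map (QuotientGroup.mk' (A.subgroupOf R)) (QuotientGroup.mk'_surjective _)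
  obtain ⟨w, hw, hw1⟩ := (Subgroup.ne_bot_iff_exists_ne_one (H := (W.subgroupOf R).map
    (QuotientGroup.mk' (A.subgroupOf R)) ⊓ Subgroup.center _)).mp (S0065.result _ fun h => hbig fun c hc => by
      rw [Subgroup.map_eq_bot_iff, QuotientGroup.ker_mk'] at h
      exact h (show (⟨c, hCR hc.1⟩ : R) ∈ W.subgroupOf R from Subgroup.mem_sup_right hc))
    |>.elim fun w hw => (⟨w.1, w.2, fun e => hw (Subtype.ext e)⟩ :
      ∃ w ∈ (W.subgroupOf R).map (QuotientGroup.mk' (A.subgroupOf R)) ⊓ Subgroup.center _, w ≠ 1)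
  obtain ⟨⟨x, hxW, rfl⟩, hxZ⟩ := hw
  have hxA : (x : Ω) ∉ A := fun h => hw1 ((QuotientGroup.eq_one_iff _).mpr h)
  have hcom : ∀ r ∈ R, cj r x * (x : Ω)⁻¹ ∈ A := fun r hr => by
    have h1 := Subgroup.mem_center_iff.mp hxZ (QuotientGroup.mk' _ ⟨r, hr⟩)
    rw [← mul_inv_eq_iff_eq_mul, ← map_mul, ← map_inv, ← map_mul, ← mul_inv_eq_one, ← map_inv, ← map_mul] at h1
    exact (QuotientGroup.eq_one_iff (N := A.subgroupOf R) _).mp h1
  have hAcomm : ∀ a ∈ A, ∀ b ∈ A, a * b = b * a := fun a ha b hb => setLike_mul_comm ha hb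
  have hWc : ∀ a ∈ A, ∀ y ∈ W, a * y = y * a := by
    intro a ha y hy
    have hle : W ≤ Subgroup.centralizer ({a} : Set Ω) := sup_le
      (fun b hb => Subgroup.mem_centralizer_singleton_iff.mpr (hAcomm b hb a ha))
      fun c hc => Subgroup.mem_centralizer_singleton_iff.mpr (hc.2 a ha).symm
    exact (Subgroup.mem_centralizer_singleton_iff.mp (hle hy)).symm
  obtain ⟨a₀, ha₀, c₀, hc₀, hxac'⟩ := Coprime.exists_mul_of_mem_sup
    ((inf_le_right : C ⊓ Subgroup.centralizer (A : Set Ω) ≤ _).trans (Subgroup.centralizer_le_normalizer _)) hxW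
  have hxac : (x : Ω) = a₀ * c₀ := hxac'.symm
  have hxq : (x : Ω) ^ q = 1 := by
    rw [hxac, (show Commute a₀ c₀ from hc₀.2 a₀ ha₀).mul_pow, hAq a₀ ha₀, hCq c₀ hc₀.1, one_mul]
  set B : Subgroup Ω := A ⊔ Subgroup.zpowers (x : Ω) with hB
  have hAB : A < B := lt_of_le_of_ne le_sup_left fun e =>
    hxA (e.ge (Subgroup.mem_sup_right (Subgroup.mem_zpowers _)))
  have hxn : Subgroup.zpowers (x : Ω) ≤ Subgroup.normalizer (A : Set Ω) :=
    Subgroup.zpowers_le.mpr (hAn' x x.2)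
  have hBdec : ∀ b ∈ B, ∃ a ∈ A, ∃ i : ℤ, b = a * (x : Ω) ^ i := fun b hb => by
    obtain ⟨a, ha, z, hz, e⟩ := Coprime.exists_mul_of_mem_sup hxn hb
    obtain ⟨i, rfl⟩ := Subgroup.mem_zpowers_iff.mp hz
    exact ⟨a, ha, i, e.symm⟩
  have hax : ∀ a ∈ A, ∀ i : ℤ, Commute a ((x : Ω) ^ i) := fun a ha i =>
    Commute.zpow_right (hWc a ha x hxW) i
  have hBc : IsMulCommutative B := ⟨⟨fun u v => by
    obtain ⟨a, ha, i, eu⟩ := hBdec u u.2
    obtain ⟨b, hb, l, ev⟩ := hBdec v v.2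
    refine Subtype.ext ?_
    show (u : Ω) * v = v * u
    rw [eu, ev]
    exact (((show Commute a b from hAcomm a ha b hb).mul_right (hax a ha l)).mul_left
      ((hax b hb i).symm.mul_right ((Commute.refl _).zpow_zpow i l))).eq⟩⟩
  have hBq : ∀ b ∈ B, b ^ q = 1 := fun b hb => by
    obtain ⟨a, ha, i, rfl⟩ := hBdec b hb
    rw [(hax a ha i).mul_pow, hAq a ha, one_mul, ← zpow_natCast, ← zpow_mul, mul_comm, zpow_mul, zpow_natCast,
      hxq, one_zpow]
  have hxH : (x : Ω) ∈ H := by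
    rw [hxac]; exact H.mul_mem (hAH ha₀) (hCH hc₀.1)
  have hBH : B ≤ H := sup_le hAH (Subgroup.zpowers_le.mpr hxH)
  have hBR : B ≤ R := sup_le hAR (Subgroup.zpowers_le.mpr x.2)
  have hBn : ∀ r ∈ R, r ∈ Subgroup.normalizer (B : Set Ω) := fun r hr => by
    haveI := finite_of_le (hBR.trans hRS)
    refine Subgroup.mem_normalizer_fintype fun b hb => ?_
    have hle : B ≤ B.comap (MulAut.conj r).toMonoidHom := sup_le
      (fun a ha => Subgroup.mem_sup_left ((cj_mem_iff (hAn' r hr) a).mpr ha))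
      (Subgroup.zpowers_le.mpr (show cj r x ∈ B from by
        rw [show cj r x = cj r x * (x : Ω)⁻¹ * x by group]
        exact B.mul_mem (Subgroup.mem_sup_left (hcom r hr)) (Subgroup.mem_sup_right (Subgroup.mem_zpowers _))))
    exact hle hb
  -- write `g` as a map of `E` and a map fixing a conjugate of `B`
  have hgF : Mor F R g := hMF hg.mor
  have hgB : Mor F B g := hgF.restrict hBR
  have hgE : Mor E B g := hag B g hBH hBc hBq hgB
  set B₁ := hgE.img with hB₁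
  have hgBi : Iso E g B B₁ := hgE.toIso
  haveI := finite_of_le hgBi.cod_le
  obtain ⟨B₂, hB₂c, hB₂n⟩ := exists_fullyNormalized (F := F) hgBi.cod_le
  obtain ⟨r₀, hr₀⟩ := isConj_iff.mp hB₂c
  have hB₁H : B₁ ≤ H := fun y hy => by
    obtain ⟨b, hb, rfl⟩ := hgBi.surj hy
    exact stronglyClosed_mem hHsc hgB hb (hBH hb)
  have hB₁c : IsMulCommutative B₁ := ⟨⟨fun u v => by
    obtain ⟨a, ha, eu⟩ := hgBi.surj u.2
    obtain ⟨b, hb, ev⟩ := hgBi.surj v.2
    refine Subtype.ext ?_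
    show (u : Ω) * v = v * u
    rw [← eu, ← ev, ← hgB.map_mul ha hb, ← hgB.map_mul hb ha,
      show a * b = b * a from congrArg Subtype.val (hBc.is_comm.comm ⟨a, ha⟩ ⟨b, hb⟩)]⟩⟩
  have hB₁q : ∀ b ∈ B₁, b ^ q = 1 := fun y hy => by
    obtain ⟨b, hb, rfl⟩ := hgBi.surj hy
    rw [← hgB.map_pow hb, hBq b hb, hgB.map_one]
  have hr₀E : Iso E r₀ B₁ B₂ := ⟨hag B₁ r₀ hB₁H hB₁c hB₁q hr₀.mor, hr₀.bij⟩
  have hB₂nE : E.IsFullyNormalized B₂ := ⟨hB₂n.1, fun Q hQ => hB₂n.2 Q (by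
    obtain ⟨r, hr⟩ := isConj_iff.mp hQ
    exact isConj_iff.mpr ⟨r, hr.mor.mono hEF, hr.bij⟩)⟩
  obtain ⟨a₂, h, ha₂, hh, eh, mh, hhi⟩ := exists_map_to_fullyNormalized hS hE hr₀E hB₂nE
  set R' := hgF.img with hR'
  have hR'n : R' ≤ normalizerIn S B₁ := fun y hy => by
    obtain ⟨r, hr, rfl⟩ := hgF.mem_img.mp hy
    refine ⟨hgF.map_mem hr, Subgroup.mem_normalizer_fintype fun b hb => ?_⟩
    obtain ⟨z, hz, rfl⟩ := hgBi.surj hb
    show cj (g r) (g z) ∈ B₁
    rw [cj_apply, ← hgF.map_conj hr (hBR hz)]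
    exact hgBi.mapsTo ((cj_mem_iff (hBn r hr) z).mpr hz)
  have hk' : Mor E R' h := hh.restrict hR'n
  have hgR' : ∀ r ∈ R, g r ∈ R' := fun r hr => hgF.mem_img.mpr ⟨r, hr, rfl⟩
  have hhg : Mor F R (h ∘ g) := hgF.comp (hk'.mono hEF) hgR'
  have he₀ : Iso E (h ∘ g) B B₂ := hgBi.comp hhi
  obtain ⟨e, he, ee⟩ := (receptive_iff.mp
    (IsSaturated_fullyNormalized hS hE hB₂nE).2.2).2 B (h ∘ g) he₀
  have hRnphi : R ≤ nphi S B (h ∘ g) := fun r hr => mem_nphi.mpr ⟨hRS hr, hBn r hr,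
    (h ∘ g) r, hhg.map_mem hr, fun b hb => hhg.map_conj hr (hBR hb)⟩
  have heR : Mor E R e := he.restrict hRnphi
  obtain ⟨e', he', hl', -⟩ := heR.toIso.exists_symm
  have hm : Mor F heR.img ((h ∘ g) ∘ e') := (he'.mor.mono hEF).comp hhg fun y hy => he'.mapsTo hy
  haveI := finite_of_le hB₂n.1
  have hB₂H : B₂ ≤ H := fun y hy => by
    obtain ⟨b, hb, rfl⟩ := he₀.surj hy
    exact stronglyClosed_mem hHsc hhg (hBR hb) (hBH hb)
  have hB₂c' : IsMulCommutative B₂ := ⟨⟨fun u v => by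
    obtain ⟨a, ha, eu⟩ := he₀.surj u.2
    obtain ⟨b, hb, ev⟩ := he₀.surj v.2
    refine Subtype.ext ?_
    show (u : Ω) * v = v * u
    rw [← eu, ← ev, ← he₀.mor.map_mul ha hb, ← he₀.mor.map_mul hb ha,
      show a * b = b * a from congrArg Subtype.val (hBc.is_comm.comm ⟨a, ha⟩ ⟨b, hb⟩)]⟩⟩
  have hB₂q : ∀ b ∈ B₂, b ^ q = 1 := fun y hy => by
    obtain ⟨b, hb, rfl⟩ := he₀.surj hy
    rw [← he₀.mor.map_pow hb, hBq b hb, he₀.mor.map_one]
  have hcard : Nat.card A < Nat.card B₂ := by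
    haveI := finite_of_le (hBR.trans hRS)
    rw [← he₀.card_eq]
    exact card_lt_of_lt hAB
  have hB₂img : B₂ ≤ heR.img := fun y hy => by
    obtain ⟨b, hb, rfl⟩ := he₀.surj hy
    exact heR.mem_img.mpr ⟨b, hBR hb, ee b hb⟩
  have hmE : Mor E heR.img ((h ∘ g) ∘ e') := by
    refine IH _ ?_ B₂ rfl hB₂H hB₂c' hB₂q hB₂n heR.img _ hm hB₂img (fun y hy => ?_) fun b hb => ?_
    · have := card_le_of_le hB₂n.1
      omega
    · obtain ⟨r, hr, rfl⟩ := heR.mem_img.mp hy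
      refine ⟨heR.map_mem hr, Subgroup.mem_normalizer_fintype fun b hb => ?_⟩
      obtain ⟨z, hz, rfl⟩ := he₀.surj hb
      show cj (e r) ((h ∘ g) z) ∈ B₂
      rw [← ee z hz, cj_apply, ← heR.map_conj hr (hBR hz)]
      show e (cj r z) ∈ B₂
      rw [ee _ ((cj_mem_iff (hBn r hr) z).mpr hz)]
      exact he₀.mapsTo ((cj_mem_iff (hBn r hr) z).mpr hz)
    · obtain ⟨z, hz, rfl⟩ := he₀.surj hb
      show (h ∘ g) (e' ((h ∘ g) z)) = (h ∘ g) z
      rw [show e' ((h ∘ g) z) = z by rw [← ee z hz]; exact hl' z (hBR hz)]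
  have hhgE : Mor E R (h ∘ g) := (heR.comp hmE fun y hy => heR.mem_img.mpr ⟨y, hy, rfl⟩).congr
    fun r hr => by show (h ∘ g) (e' (e r)) = _; rw [hl' r hr]
  obtain ⟨h', hh', hl'', -⟩ := hk'.toIso.exists_symm
  exact (hhgE.comp hh'.mor fun r hr => hk'.mem_img.mpr ⟨g r, hgR' r hr, rfl⟩).congr
    fun r hr => hl'' (g r) (hgR' r hr)

end Cfsg.Agent.FusionZJ
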