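import Cfsg.Agent.FusionZJ.LocalSteps

/-!
A characteristic subgroup of a Sylow subgroup of a constrained group that is normalized, and not
centralized, by an element of order prime to `p`.
-/

set_option autoImplicit false
set_option linter.style.haveILetI false

namespace Cfsg.Agent.FusionZJ

open Cfsg Cfsg.Agent

universe u

/-- A characteristic subgroup of the Sylow subgroup moved by an element of order prime to `p`. -/
theorem exists_char_noncentral {p : ℕ} [Fact p.Prime] :
    ∀ (n : ℕ) (L : Type u) [Group L] [Finite L], Nat.card L = n → ∀ T : Sylow p L,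
      Subgroup.centralizer ((pCore p L : Subgroup L) : Set L) ≤ pCore p L → OddOrS4Free p L →
      ¬ IsPGroup p L → ∃ Q : Subgroup (T : Subgroup L), Q.Characteristic ∧
        ∃ g ∈ Subgroup.normalizer ((Q.map (T : Subgroup L).subtype : Subgroup L) : Set L),
          (orderOf g).Coprime p ∧ ∃ q ∈ Q, g * (q : L) * g⁻¹ ≠ q := by
  intro n
  induction n using Nat.strong_induction_on with
  | _ n IH =>
  intro L _ _ hcard T hC hfree hL
  rcases thompson_step T hC hfree hL with ⟨g, hg, hg1, hgp⟩ | hfix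
  · refine ⟨thompsonSubgroupA (T : Subgroup L),
      characteristic_of_equiv jA jA_equiv T.isPGroup', g, hg, hgp, ?_⟩
    by_contra hall
    push Not at hall
    refine hg1 (eq_one_of_centralizes_thompson T hC hgp ?_)
    rintro _ ⟨q, hq, rfl⟩
    exact (mul_inv_eq_iff_eq_mul.mp (hall q hq)).symm
  set P := (T : Subgroup L)
  haveI : Nontrivial P := (Subgroup.nontrivial_iff_ne_bot _).mpr (sylow_ne_bot T hC hL)
  set Z := (Subgroup.center P).map P.subtype with hZ
  have hZ1 : Z ≠ ⊥ := fun h => (Subgroup.nontrivial_iff_ne_bot _).mp T.isPGroup'.center_nontrivial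
    ((Subgroup.map_eq_bot_iff_of_injective _ P.subtype_injective).mp h)
  have hZc : ∀ z ∈ Z, ∀ g : L, g * z * g⁻¹ = z := by
    rintro _ ⟨z, hz, rfl⟩ g
    exact hfix z z.2 (fun a ha =>
      congrArg Subtype.val (Subgroup.mem_center_iff.mp hz ⟨a, ha⟩)) g
  haveI : Z.Normal := ⟨fun z hz g => (hZc z hz g).symm ▸ hz⟩
  have hZT : Z ≤ P := Subgroup.map_subtype_le _
  have hZp : IsPGroup p Z := T.isPGroup'.to_le hZT
  have hZO : Z ≤ pCore p L := Core.le_pCore inferInstance hZp
  set π := QuotientGroup.mk' Z with hπ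
  have hπs : Function.Surjective π := QuotientGroup.mk'_surjective Z
  have hcore : ((pCore p L).map π) ≤ pCore p (L ⧸ Z) := by
    haveI : ((pCore p L).map π).Normal := (inferInstance : (pCore p L).Normal).map π hπs
    exact Core.le_pCore inferInstance ((Core.isPGroup_pCore p L).map π)
  -- the quotient is constrained
  have hC' : Subgroup.centralizer ((pCore p (L ⧸ Z) : Subgroup (L ⧸ Z)) : Set (L ⧸ Z)) ≤
      pCore p (L ⧸ Z) := by
    haveI : (Subgroup.centralizer ((pCore p (L ⧸ Z) : Subgroup (L ⧸ Z)) : Set (L ⧸ Z))).Normal :=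
      inferInstance
    refine Core.le_pCore inferInstance (Core.ThompsonComplement.isPGroup_of_forall_coprime fun m hm hmp => ?_)
    obtain ⟨x, hx⟩ := hπs m
    obtain ⟨g, hgm, hgp⟩ := exists_coprime_preimage π hmp hx
    have hgO : g ∈ Subgroup.centralizer ((pCore p L : Subgroup L) : Set L) := by
      intro o ho
      have hcZ : o⁻¹ * (g * o * g⁻¹) ∈ Z := by
        rw [← QuotientGroup.eq_one_iff, ← QuotientGroup.mk'_apply]
        have h := hm _ (hcore ⟨o, ho, rfl⟩)
        rw [← hgm] at h
        change π (o⁻¹ * (g * o * g⁻¹)) = 1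
        rw [map_mul, map_mul, map_mul, map_inv, map_inv, ← h, mul_inv_cancel_right, inv_mul_cancel]
      exact (mul_inv_eq_iff_eq_mul.mp
        (commute_of_commutator_fixed hgp hZp hcZ (hZc _ hcZ g))).symm
    rw [← hgm, Core.ThompsonComplement.eq_one_of_mem (Core.isPGroup_pCore p L) (hC hgO) hgp,
      map_one]
  have hL' : ¬ IsPGroup p (L ⧸ Z) := fun h => hL (by
    obtain ⟨a, ha⟩ := IsPGroup.iff_card.mp h
    obtain ⟨b, hb⟩ := IsPGroup.iff_card.mp hZp
    exact IsPGroup.of_card (n := a + b)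
      (by rw [Subgroup.card_eq_card_quotient_mul_card_subgroup Z, ha, hb, pow_add]))
  have hlt : Nat.card (L ⧸ Z) < n := by
    rw [← hcard, Subgroup.card_eq_card_quotient_mul_card_subgroup Z]
    exact lt_mul_of_one_lt_right Nat.card_pos ((Subgroup.one_lt_card_iff_ne_bot Z).mpr hZ1)
  have key : ∃ Q' : Subgroup ↥(P.map π), Q'.Characteristic ∧
      ∃ m ∈ Subgroup.normalizer ((Q'.map (P.map π).subtype : Subgroup (L ⧸ Z)) : Set (L ⧸ Z)),
        (orderOf m).Coprime p ∧ ∃ q' ∈ Q', m * (q' : L ⧸ Z) * m⁻¹ ≠ q' :=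
    IH _ hlt (L ⧸ Z) rfl (T.mapSurjective hπs) hC'
      (oddOrS4Free_quot L (L ⧸ Z) π hπs hfree) hL'
  obtain ⟨Q', hQ'c, m, hm, hmp, q', hq', hne⟩ := key
  -- the preimage of `Q'`
  let θ : P →* P.map π := (π.subgroupMap P)
  have hθ : Function.Surjective θ := π.subgroupMap_surjective P
  have hker : θ.ker = Subgroup.center P := by
    ext x
    rw [MonoidHom.mem_ker, Subtype.ext_iff]
    show π (x : L) = 1 ↔ _
    rw [hπ, QuotientGroup.mk'_apply, QuotientGroup.eq_one_iff, hZ]
    exact Subgroup.mem_map_iff_mem P.subtype_injective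
  set Q := Q'.comap θ with hQ
  have hQc : Q.Characteristic := by
    refine Subgroup.characteristic_iff_le_comap.mpr fun α x hx => ?_
    have hkα : θ.ker.map (α : P →* P) = θ.ker := by
      rw [hker]
      exact Subgroup.characteristic_iff_map_eq.mp inferInstance α
    let e := QuotientGroup.quotientKerEquivOfSurjective θ hθ
    let β : P.map π ≃* P.map π := e.symm.trans ((QuotientGroup.congr θ.ker θ.ker α hkα).trans e)
    have hβ : ∀ y : P, β (θ y) = θ (α y) := by
      intro y
      have h1 : e.symm (θ y) = QuotientGroup.mk' θ.ker y := e.injective (by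
        rw [MulEquiv.apply_symm_apply]; rfl)
      show e ((QuotientGroup.congr θ.ker θ.ker α hkα) (e.symm (θ y))) = _
      rw [h1]
      rfl
    show θ (α x) ∈ Q'
    rw [← hβ]
    exact Subgroup.characteristic_iff_le_comap.mp hQ'c β hx
  have hQmap : Q.map P.subtype = (Q'.map (P.map π).subtype).comap π := by
    ext y
    constructor
    · rintro ⟨x, hx, rfl⟩
      exact ⟨θ x, hx, rfl⟩
    · rintro ⟨z, hz, hzy⟩
      obtain ⟨x, rfl⟩ := hθ z
      have h1 : (x : L)⁻¹ * y ∈ Z := by
        rw [← QuotientGroup.eq_one_iff]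
        change π ((x : L)⁻¹ * y) = 1
        rw [map_mul, map_inv, ← hzy]
        exact inv_mul_cancel _
      have hyP : y ∈ P := by
        have := P.mul_mem x.2 (hZT h1)
        rwa [mul_inv_cancel_left] at this
      refine ⟨⟨y, hyP⟩, ?_, rfl⟩
      show θ ⟨y, hyP⟩ ∈ Q'
      rwa [show θ ⟨y, hyP⟩ = θ x from Subtype.ext hzy.symm]
  obtain ⟨x, hx⟩ := hπs m
  obtain ⟨g, hgm, hgp⟩ := exists_coprime_preimage π hmp hx
  refine ⟨Q, hQc, g, ?_, hgp, ?_⟩
  · rw [hQmap]
    refine Subgroup.mem_normalizer_iff.mpr fun y => ?_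
    simp only [Subgroup.mem_comap, map_mul, map_inv, hgm]
    exact Subgroup.mem_normalizer_iff.mp hm (π y)
  · obtain ⟨q, rfl⟩ := hθ q'
    refine ⟨q, hq', fun h => hne ?_⟩
    have := congrArg π h
    simp only [map_mul, map_inv, hgm] at this
    exact this

end Cfsg.Agent.FusionZJ
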