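import Cfsg.Agent.FusionZJ.ClosedControl
import Cfsg.Agent.Fusion.ModelThm
import Cfsg.Prelude.Def_FusionComponents

/-!
Systems free of `Qd(p)` sections are constrained, realizable and solvable.
-/

set_option autoImplicit false
set_option linter.style.haveILetI false
set_option maxHeartbeats 800000

namespace Cfsg.Agent.FusionZJ

open Cfsg Cfsg.FusionSystem Cfsg.Agent Cfsg.Agent.Fusion
open scoped commutatorElement

universe u

variable {Ω : Type u} [Group Ω] {S : Subgroup Ω} {F : FusionSystem S} {p : ℕ}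

theorem zjA_ne_bot (Q : Type u) [Group Q] [Finite Q] (hQ : IsPGroup p Q) [Fact p.Prime]
    (hnt : Nontrivial Q) : zjA Q ≠ ⊥ := by
  intro h
  have htop : (⊤ : Subgroup Q) ≠ ⊥ := (Subgroup.nontrivial_iff_ne_bot _).mp inferInstance
  refine PLocal.centerThompsonAOf_ne_bot (hQ.to_subgroup _) htop ?_
  rw [← wOf_zjA, wOf, ← zjA_equiv Q ↥(⊤ : Subgroup Q) hQ Subgroup.topEquiv.symm, h, Subgroup.map_bot,
    Subgroup.map_bot]

theorem zjA_step [Fact p.Prime] (hp : p ≠ 2) (L : Type u) [Group L] [Finite L] (T : Sylow p L)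
    (hC : Subgroup.centralizer ((pCore p L : Subgroup L) : Set L) ≤ pCore p L)
    (hL : FreeOf ↥(Cfsg.qd p) L) (D : Subgroup L) (hD : ClosedIn (T : Subgroup L) D) :
    (wOf zjA D).Normal := by
  rw [wOf_zjA, ← PLocal.zMax_ab_eq]
  exact zMax_normal_closed PLocal.replClass_ab hp T hD hC
    (PLocal.pStableOn_hst (fun Q _ hQ => isPStableOn_of_qd_free hp hL Q hQ) T)

theorem wOf_zjA_comm {G : Type u} [Group G] (U : Subgroup G) :
    ∀ a ∈ wOf zjA U, ∀ b ∈ wOf zjA U, a * b = b * a := by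
  rw [wOf_zjA]
  exact fun a ha b hb => hb.2 a ha.1

/-- The centralizer of a normal subgroup is strongly closed. -/
theorem stronglyClosed_centralizerIn_of_normal [Finite S] {Q : Subgroup Ω} (hQ : F.IsNormal Q) :
    F.StronglyClosed (centralizerIn S Q) := by
  refine stronglyClosed_of_mor centralizerIn_le fun P f hf x hx hxC => ⟨hf.map_mem hx, fun q hq => ?_⟩
  obtain ⟨g, hg, eg, mg⟩ := ExtStab.of_isNormal hQ hf
  obtain ⟨q', hq', rfl⟩ : ∃ q' ∈ Q, g q' = q := by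
    haveI := finite_of_le hQ.1
    exact ((hg.restrict le_sup_right).iso_of_card mg le_rfl).surj hq
  rw [← eg x hx, ← hg.map_mul (Subgroup.mem_sup_right hq') (Subgroup.mem_sup_left hx),
    ← hg.map_mul (Subgroup.mem_sup_left hx) (Subgroup.mem_sup_right hq'), hxC.2 q' hq']

/-- A system free of `Qd(p)` is constrained: its core is centric. -/
theorem core_centric_of_good [Fact p.Prime] [Finite S] (hp : p ≠ 2) (hS : IsPGroup p S)
    (hF : F.IsSaturated p) (hgood : HasGood (FreeOf ↥(Cfsg.qd p)) F p ⊥) : F.IsCentric F.core := by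
  set Q := F.core with hQ
  have hQnorm : F.IsNormal Q := core_isNormal
  have hQsc := isNormal_stronglyClosed hQnorm
  have hQS : Q ≤ S := hQnorm.1
  haveI : (Q.subgroupOf S).Normal :=
    Subgroup.normal_subgroupOf_of_le_normalizer (stronglyClosed_normalizer hQsc)
  refine ⟨hQS, fun R hR => ?_⟩
  obtain rfl : R = Q := by
    obtain ⟨f, hf⟩ := isConj_iff.mp hR
    haveI := finite_of_le hQS
    have hfQ : Iso F f Q Q := hf.mor.iso_of_card
      (fun x hx => stronglyClosed_mem hQsc hf.mor hx hx) le_rfl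
    exact SetLike.coe_injective (hf.bij.image_eq.symm.trans hfQ.bij.image_eq)
  set C := centralizerIn S Q with hC
  have hCsc : F.StronglyClosed C := stronglyClosed_centralizerIn_of_normal hQnorm
  by_contra hCQ
  obtain ⟨E, hE⟩ := exists_factorSystem_quotient F Q hQsc
  set θ := QuotientGroup.mk' (Q.subgroupOf S) with hθ
  have hk := hE.2.1
  have hS' : IsPGroup p ↥(⊤ : Subgroup (S ⧸ Q.subgroupOf S)) := (hS.to_quotient _).to_subgroup _
  have hEsat := factor_saturated hS hF hQsc hE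
  set Cb := imageAlong θ C with hCb
  have hCbsc : E.StronglyClosed Cb := by
    refine stronglyClosed_of_mor le_top fun P' f hf y hy hyC => ?_
    obtain ⟨f', hf', ef⟩ := factor_lift hE hf
    obtain ⟨x, hxC, rfl⟩ := (mem_imageAlong (hP := hCsc.1)).mp hyC
    have hxP : x ∈ preimageAlong θ P' := mem_preimage_iff.mpr ⟨hCsc.1 hxC, hy⟩
    rw [ef x hxP]
    exact (mem_imageAlong (hP := hCsc.1)).mpr ⟨_, stronglyClosed_mem hCsc hf' hxP hxC, rfl⟩
  have hWE := functor_isNormal_closed (Good := FreeOf ↥(Cfsg.qd p)) (W := zjA)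
    (fun Q _ _ hQ hnt => zjA_ne_bot Q hQ hnt) zjA_equiv (zjA_step hp)
    freeOf_sub freeOf_quot _ _ _ ⊤ hS' E hEsat rfl rfl
    (hasGood_factor hS hF freeOf_quot hQnorm (fun R h1 h2 _ => hgood R h1 h2 bot_le) hE) Cb hCbsc
  set Wb := wOf zjA Cb with hWb
  have hWC : Wb ≤ Cb := wOf_le _ _
  have hCb1 : Cb ≠ ⊥ := fun h => hCQ fun x hx =>
    (extHom_eq_one hk (hCsc.1 hx)).mp (Subgroup.mem_bot.mp
      (h ▸ (mem_imageAlong (hP := hCsc.1)).mpr ⟨x, hx, rfl⟩))
  have hWb1 : Wb ≠ ⊥ := wOf_ne_bot (fun Q _ _ hQ hnt => zjA_ne_bot Q hQ hnt) hS' le_top hCb1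
  set V := C ⊓ preimageAlong θ Wb with hV
  have hVsc : F.StronglyClosed V := by
    refine stronglyClosed_of_mor (inf_le_left.trans hCsc.1) fun P f hf x hx hxV =>
      ⟨stronglyClosed_mem hCsc hf hx hxV.1, ?_⟩
    obtain ⟨g, hg, eg, -⟩ := ExtStab.of_isNormal hQnorm hf
    obtain ⟨h, hh, eh⟩ := factor_push hQsc hE hg le_sup_right
    have hx' : x ∈ P ⊔ Q := Subgroup.mem_sup_left hx
    have h1 := stronglyClosed_mem (isNormal_stronglyClosed hWE) hh
      ((mem_imageAlong (hP := hg.dom_le)).mpr ⟨x, hx', rfl⟩) (mem_preimage_iff.mp hxV.2).2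
    rw [eh x hx', eg x hx] at h1
    exact mem_preimage_iff.mpr ⟨hf.map_mem hx, h1⟩
  have hVn : F.IsNormal V := by
    refine isNormal_of_chain hS hF hVsc 2
      (fun i => if i = 0 then ⊥ else if i = 1 then C ⊓ Q else V) (by simp) (by simp) ?_ ?_ ?_
    · intro i hi
      interval_cases i
      · simp
      · simp only [show (1 : ℕ) ≠ 0 from one_ne_zero, if_true, if_false, show (1 + 1 : ℕ) ≠ 0 from by omega,
          show (1 + 1 : ℕ) ≠ 1 from by omega]
        exact le_inf inf_le_left (fun x hx => le_preimageAlong θ hk hQS Wb hx.2)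
    · intro i hi
      interval_cases i
      · exact weaklyClosed_of_stronglyClosed (isNormal_stronglyClosed isNormal_bot)
      · exact weaklyClosed_of_stronglyClosed (stronglyClosed_of_mor (inf_le_right.trans hQS)
          fun P f hf x hx hxV => ⟨stronglyClosed_mem hCsc hf hx hxV.1,
            stronglyClosed_mem hQsc hf hx hxV.2⟩)
    · intro i hi x hx q hq
      interval_cases i
      · simp only [if_pos, Subgroup.mem_bot] at hx ⊢
        simp at hx
        exact commutatorElement_eq_one_iff_mul_comm.mpr (hq.1.2 x hx.2)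
      · simp at hx ⊢
        have hxS := hCsc.1 hx.1
        have hqS := hCsc.1 hq.1
        refine ⟨?_, ?_⟩
        · rw [commutatorElement_def]
          exact C.mul_mem (C.mul_mem (C.mul_mem hx.1 hq.1) (C.inv_mem hx.1)) (C.inv_mem hq.1)
        · obtain ⟨-, hxK⟩ := mem_preimage_iff.mp hx.2
          obtain ⟨-, hqK⟩ := mem_preimage_iff.mp hq.2
          refine (extHom_eq_one hk (show ⁅x, q⁆ ∈ S by
            rw [commutatorElement_def]
            exact S.mul_mem (S.mul_mem (S.mul_mem hxS hqS) (S.inv_mem hxS)) (S.inv_mem hqS))).mp ?_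
          rw [commutatorElement_def, extHom_mul θ (S.mul_mem (S.mul_mem hxS hqS) (S.inv_mem hxS))
              (S.inv_mem hqS), extHom_mul θ (S.mul_mem hxS hqS) (S.inv_mem hxS),
            extHom_mul θ hxS hqS, extHom_inv θ hxS, extHom_inv θ hqS, wOf_zjA_comm Cb _ hxK _ hqK]
          group
  have hVQ : V ≤ Q := le_sSup hVn
  refine hWb1 (le_bot_iff.mp fun y hy => ?_)
  obtain ⟨x, hxC, rfl⟩ := (mem_imageAlong (hP := hCsc.1)).mp (hWC hy)
  exact Subgroup.mem_bot.mpr ((extHom_eq_one hk (hCsc.1 hxC)).mpr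
    (hVQ ⟨hxC, mem_preimage_iff.mpr ⟨hCsc.1 hxC, hy⟩⟩))

/-- A model free of `Qd(p)` of a system free of `Qd(p)`. -/
theorem exists_free_model [Fact p.Prime] [Finite S] (hp : p ≠ 2) (hS : IsPGroup p S)
    (hF : F.IsSaturated p) (hgood : HasGood (FreeOf ↥(Cfsg.qd p)) F p ⊥) :
    ∃ (L : Type u) (_ : Group L) (ι : S →* L), F.IsModel p L ι ∧ FreeOf ↥(Cfsg.qd p) L := by
  have hQc := core_centric_of_good hp hS hF hgood
  have hQn : F.IsNormal F.core := core_isNormal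
  have hsn := stronglyClosed_normalizer (isNormal_stronglyClosed hQn)
  have hSN : S ≤ normalizerIn S F.core := le_inf le_rfl hsn
  have hQfn : F.IsFullyNormalized F.core := by
    refine ⟨hQn.1, fun R _ => ?_⟩
    haveI : Finite ↥(normalizerIn S F.core) := finite_of_le normalizerIn_le
    exact Fusion.card_le_of_le (normalizerIn_le.trans hSN)
  obtain ⟨N, L, _, ι, hN, ⟨hfin, ⟨hinj, hR⟩, ⟨T, hT⟩, hc⟩, hL⟩ := hgood F.core hQfn hQc bot_le
  have hhom : ∀ (P : Subgroup Ω) (φ : P →* Ω), φ ∈ F.Hom P → φ ∈ N.Hom P := by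
    intro P φ hφ
    rw [hN P]
    have hm := mor_of_mem hφ
    obtain ⟨g, hg, eg, mg⟩ := ExtStab.of_isNormal hQn hm
    haveI := finite_of_le hQn.1
    exact ⟨hφ, hm.dom_le.trans hSN, fun x => hSN ((F.le_of_mem hφ).2 x), (stabExt_iff (φ := φ)).mpr
      ⟨g, hg, fun x => (eg x x.2).trans (extFun_coe φ x),
        image_eq_of_iso (F := F) ((hg.restrict le_sup_right).iso_of_card mg le_rfl)⟩⟩
  refine ⟨L, inferInstance, ι.comp (Subgroup.inclusion hSN), ⟨hfin, ⟨?_, fun P hP φ hφ => ?_⟩, ⟨T, ?_⟩, hc⟩, hL⟩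
  · exact hinj.comp (Subgroup.inclusion_injective hSN)
  · refine Iff.trans ⟨hhom P φ, fun h => ?_⟩ (hR P (hP.trans hSN) φ fun x => hSN (hφ x))
    rw [hN P] at h
    exact h.1
  · rw [hT]
    ext y
    exact ⟨fun ⟨s, hs⟩ => ⟨⟨s, normalizerIn_le s.2⟩, hs⟩, fun ⟨s, hs⟩ => ⟨_, hs⟩⟩

/-- A system with a model free of `Qd(p)` is solvable. -/
theorem solvable_of_free_model [Fact p.Prime] [Finite S] (hp : p ≠ 2) (hS : IsPGroup p S)
    {L : Type u} [Group L] {ι : S →* L} (hM : F.IsModel p L ι) (hL : FreeOf ↥(Cfsg.qd p) L) :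
    F.IsSolvableSystem := by
  intro R hR hRS hRn E hE hcore
  haveI : Finite L := hM.1
  obtain ⟨hinj, -⟩ := hM.2.1
  obtain ⟨T, hT⟩ := hM.2.2.1
  set θ := QuotientGroup.mk' (R.subgroupOf S) with hθ
  have hk := hE.2.1
  set R' := (R.subgroupOf S).map ι with hR'
  set M := Subgroup.normalizer (R' : Set L) with hMdef
  have hTM : (T : Subgroup L) ≤ M := by
    rw [hT]
    rintro _ ⟨s, rfl⟩
    refine Subgroup.mem_normalizer_fintype ?_
    rintro _ ⟨r, hr, rfl⟩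
    exact ⟨s * r * s⁻¹, hRn.conj_mem r hr s, by simp⟩
  have hιM : ∀ s, ι s ∈ M := fun s => hTM (hT ▸ ⟨s, rfl⟩)
  haveI : (R'.subgroupOf M).Normal := Subgroup.normal_subgroupOf_of_le_normalizer le_rfl
  set π := QuotientGroup.mk' (R'.subgroupOf M) with hπ
  let κ : S →* M ⧸ R'.subgroupOf M := π.comp (ι.codRestrict M hιM)
  have hκ : ∀ s, κ s = 1 ↔ (s : Ω) ∈ R := by
    intro s
    refine ((QuotientGroup.eq_one_iff _).trans Subgroup.mem_subgroupOf).trans ⟨?_, fun h => ⟨s, h, rfl⟩⟩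
    rintro ⟨r, hr, hrs⟩
    exact hinj hrs ▸ hr
  let κb : S ⧸ R.subgroupOf S →* M ⧸ R'.subgroupOf M :=
    QuotientGroup.lift (R.subgroupOf S) κ fun s hs => (hκ s).mpr hs
  have hκbi : Function.Injective κb := by
    rw [injective_iff_map_eq_one]
    intro y
    obtain ⟨s, rfl⟩ := QuotientGroup.mk'_surjective _ y
    exact fun h => (hk s).mpr ((hκ s).mp h)
  let T' : Sylow p M := T.subtype hTM
  let Tb : Sylow p (M ⧸ R'.subgroupOf M) := T'.mapSurjective (QuotientGroup.mk'_surjective _)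
  have hTb : (Tb : Subgroup _) = (⊤ : Subgroup (S ⧸ R.subgroupOf S)).map κb := by
    ext y
    rw [Sylow.coe_mapSurjective]
    constructor
    · rintro ⟨z, hz, rfl⟩
      obtain ⟨s, hs⟩ : (z : L) ∈ ι.range := hT ▸ hz
      exact ⟨θ s, trivial, congrArg π (Subtype.ext hs)⟩
    · rintro ⟨z, -, rfl⟩
      obtain ⟨s, rfl⟩ := QuotientGroup.mk'_surjective _ z
      exact ⟨⟨ι s, hιM s⟩, (hT ▸ ⟨s, rfl⟩ : ι s ∈ (T : Subgroup L)), rfl⟩
  have hfree : FreeOf ↥(Cfsg.qd p) (M ⧸ R'.subgroupOf M) :=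
    freeOf_quot _ _ π (QuotientGroup.mk'_surjective _) (freeOf_sub _ _ M.subtype M.subtype_injective hL)
  set V := wOf zjA (⊤ : Subgroup (S ⧸ R.subgroupOf S)) with hV
  have hS' : IsPGroup p ↥(⊤ : Subgroup (S ⧸ R.subgroupOf S)) := (hS.to_quotient _).to_subgroup _
  have hVκ : centerThompsonAOf (Tb : Subgroup _) = V.map κb := by
    rw [hTb, ← wOf_zjA, wOf_map zjA zjA_equiv κb hκbi _ hS']
  have htop : (⊤ : Subgroup (S ⧸ R.subgroupOf S)) ≠ ⊥ := fun h => hRS (le_antisymm hR.1 fun s hs =>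
    (hk ⟨s, hs⟩).mp (Subgroup.mem_bot.mp (h ▸ Subgroup.mem_top _)))
  refine wOf_ne_bot (fun Q _ _ hQ hnt => zjA_ne_bot Q hQ hnt) hS' le_rfl htop
    (le_bot_iff.mp (le_trans (le_sSup ?_) hcore.le))
  refine isNormal_of_extStab le_top fun P' f hf => ?_
  obtain ⟨f', hf', ef⟩ := factor_lift hE hf
  obtain ⟨g, hg⟩ := realized_conj_of_mor hM.2.1 hf'
  have hRP : R ≤ preimageAlong θ P' := le_preimageAlong θ hk hR.1 P'
  have hgM : g ∈ M := by
    refine Subgroup.mem_normalizer_fintype ?_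
    rintro _ ⟨r, hr, rfl⟩
    rw [← hg r (hRP hr)]
    exact ⟨_, stronglyClosed_mem hR hf' (hRP hr) hr, rfl⟩
  set gb := π ⟨g, hgM⟩ with hgb
  have hgf : ∀ y ∈ P', κb (f y) = gb * κb y * gb⁻¹ := by
    intro y hy
    obtain ⟨x, hx, rfl⟩ := exists_preimage hE (le_top : P' ≤ ⊤) hy
    obtain ⟨hxS, -⟩ := mem_preimage_iff.mp hx
    rw [ef x hx, extHom_apply θ (hf'.map_mem hx), extHom_apply θ hxS]
    show π ⟨ι ⟨f' x, _⟩, _⟩ = gb * π ⟨ι ⟨x, hxS⟩, _⟩ * gb⁻¹
    rw [hgb, ← map_inv, ← map_mul, ← map_mul]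
    exact congrArg π (Subtype.ext (hg ⟨x, hxS⟩ hx))
  have hctrl := controls_centerThompsonA hp Tb (D := (Tb : Subgroup _))
    ⟨le_rfl, fun _ _ _ h => h⟩ hfree (κb '' (P' : Set _))
    (by rintro _ ⟨y, -, rfl⟩; show κb y ∈ (Tb : Subgroup _); rw [hTb]; exact ⟨y, trivial, rfl⟩)
  obtain ⟨n, hn, hnf⟩ := hctrl.2 gb (by
    rintro _ ⟨_, ⟨y, hy, rfl⟩, rfl⟩
    show gb * κb y * gb⁻¹ ∈ (Tb : Subgroup _)
    rw [← hgf y hy, hTb]
    exact ⟨_, trivial, rfl⟩)
  rw [hVκ] at hn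
  obtain ⟨m, rfl⟩ := QuotientGroup.mk'_surjective _ n
  set P₁ := preimageAlong θ (P' ⊔ V) with hP₁
  have hmem : ∀ y ∈ P' ⊔ V, π m * κb y * (π m)⁻¹ ∈ (⊤ : Subgroup (S ⧸ R.subgroupOf S)).map κb := by
    intro y hy
    refine (sup_le ?_ ?_ : P' ⊔ V ≤ ((⊤ : Subgroup _).map κb).comap ((MulAut.conj (π m)).toMonoidHom.comp κb)) hy
    · intro z hz
      show π m * κb z * (π m)⁻¹ ∈ (⊤ : Subgroup (S ⧸ R.subgroupOf S)).map κb
      rw [← hnf _ ⟨z, hz, rfl⟩, ← hgf z hz]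
      exact ⟨_, trivial, rfl⟩
    · intro z hz
      exact Subgroup.map_mono le_top ((Subgroup.mem_normalizer_iff.mp hn _).mp ⟨z, hz, rfl⟩)
  obtain ⟨f₁, hf₁, ef₁⟩ := realized_mor_of_conj hM.2.1 (preimageAlong_le θ : P₁ ≤ S) (m : L) fun s hs => by
    obtain ⟨-, hs'⟩ := mem_preimage_iff.mp hs
    rw [extHom_apply θ s.2] at hs'
    obtain ⟨z, -, hz⟩ := hmem _ hs'
    obtain ⟨t, rfl⟩ := QuotientGroup.mk'_surjective _ z
    have h1 : (t : S) = t := rfl
    change π ⟨ι t, hιM t⟩ = π m * π ⟨ι s, hιM s⟩ * (π m)⁻¹ at hz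
    rw [← map_inv, ← map_mul, ← map_mul, hπ, QuotientGroup.mk'_apply, QuotientGroup.mk'_apply,
      QuotientGroup.eq, Subgroup.mem_subgroupOf] at hz
    obtain ⟨r, -, hr⟩ := hz
    refine ⟨t * r, ?_⟩
    rw [map_mul, hr]
    simp [mul_assoc]
  have hRP₁ : R ≤ P₁ := le_preimageAlong θ hk hR.1 _
  obtain ⟨h, hh, eh⟩ := factor_push hR hE hf₁ hRP₁
  have himg : P' ⊔ V ≤ imageAlong θ P₁ := fun y hy => by
    obtain ⟨x, hx, rfl⟩ := exists_preimage hE (le_top : P' ⊔ V ≤ ⊤) hy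
    exact (mem_imageAlong (hP := preimageAlong_le θ)).mpr ⟨x, hx, rfl⟩
  have hκh : ∀ y ∈ P' ⊔ V, κb (h y) = π m * κb y * (π m)⁻¹ := by
    intro y hy
    obtain ⟨x, hx, rfl⟩ := exists_preimage hE (le_top : P' ⊔ V ≤ ⊤) hy
    have hxS := (mem_preimage_iff.mp hx).1
    obtain ⟨t, ht, et⟩ := ef₁ ⟨x, hxS⟩ hx
    rw [eh x hx, extHom_apply θ (hf₁.map_mem hx), extHom_apply θ hxS,
      show (⟨f₁ x, hf₁.map_mem hx⟩ : S) = t from Subtype.ext ht.symm]
    show π ⟨ι t, hιM t⟩ = π m * π ⟨ι ⟨x, hxS⟩, hιM _⟩ * (π m)⁻¹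
    rw [← map_inv, ← map_mul, ← map_mul]
    exact congrArg π (Subtype.ext et)
  refine ⟨h, hh.restrict himg, fun y hy => hκbi ?_, fun y hy => ?_⟩
  · rw [hκh y (Subgroup.mem_sup_left hy), hgf y hy, hnf _ ⟨y, hy, rfl⟩]
  · obtain ⟨z, hz, hze⟩ := (Subgroup.mem_normalizer_iff.mp hn (κb y)).mp ⟨y, hy, rfl⟩
    rw [← hκh y (Subgroup.mem_sup_right hy)] at hze
    exact hκbi hze ▸ hz

end Cfsg.Agent.FusionZJ
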