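import Cfsg.Agent.FusionZJ.ClosedZJ
import Cfsg.Agent.FusionZJ.NilpotencyApps

/-!
The Glauberman–Thompson criterion for a family of abelian subgroups with a replacement property.
-/

set_option autoImplicit false
set_option linter.style.haveILetI false
set_option linter.unusedSectionVars false

namespace Cfsg.Agent.FusionZJ

open Subgroup Cfsg Cfsg.Agent Cfsg.Agent.PLocal
open scoped commutatorElement

universe u

variable {p : ℕ} [Fact p.Prime]

/-- A constrained group in which a nonnormal Sylow subgroup is maximal has no section `SL(2,p)`. -/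
theorem no_section_of_maximal (hp2 : p ≠ 2) {L : Type u} [Group L] [Finite L] (P : Sylow p L)
    (hmaxP : ∀ H : Subgroup L, H ≠ ⊤ → (P : Subgroup L) ≤ H → H = (P : Subgroup L))
    (hPn : ¬ (P : Subgroup L).Normal) : ¬ Dickson.HasSL2Section p (⊤ : Subgroup L) := by
  -- the quotient by the largest normal p-subgroup
  set R := pCore p L with hR
  set f := QuotientGroup.mk' R with hf
  have hfs : Function.Surjective f := QuotientGroup.mk'_surjective R
  have hcore : pCore p (L ⧸ R) = ⊥ := Core.pCore_quotient_pCore p L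
  set P₁ : Sylow p (L ⧸ R) := P.mapSurjective hfs with hP₁
  have hP₁c : (P₁ : Subgroup (L ⧸ R)) = (P : Subgroup L).map f := Sylow.coe_mapSurjective _ _
  have hP₁n : ¬ (P₁ : Subgroup (L ⧸ R)).Normal := fun h => hPn (by
    have h1 := h.comap f
    rwa [hP₁c, Subgroup.comap_map_eq, QuotientGroup.ker_mk',
      sup_eq_left.mpr (Core.pCore_le_sylow P)] at h1)
  have hP₁ne : (P₁ : Subgroup (L ⧸ R)) ≠ ⊥ := fun h => hP₁n (by rw [h]; infer_instance)
  have hmaxP₁ : ∀ H : Subgroup (L ⧸ R), H ≠ ⊤ → (P₁ : Subgroup (L ⧸ R)) ≤ H →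
      H = (P₁ : Subgroup (L ⧸ R)) := by
    intro H hH hPH
    have h1 := hmaxP (H.comap f) (fun e => hH (by
        rw [← Subgroup.map_comap_eq_self_of_surjective hfs H, e, Subgroup.map_top_of_surjective _ hfs]))
      (Subgroup.map_le_iff_le_comap.mp (hP₁c ▸ hPH))
    rw [← Subgroup.map_comap_eq_self_of_surjective hfs H, h1, hP₁c]
  set M := normalizer (centerThompsonAOf (P₁ : Subgroup (L ⧸ R)) : Set (L ⧸ R)) with hMd
  have hMtop : M ≠ ⊤ := fun e => centerThompsonAOf_ne_bot P₁.2 hP₁ne (by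
    have := Core.le_pCore (Subgroup.normalizer_eq_top_iff.mp e)
      (P₁.2.to_le (centerThompsonAOf_le _))
    rwa [hcore, le_bot_iff] at this)
  have hM : M = (P₁ : Subgroup (L ⧸ R)) := hmaxP₁ M hMtop fun x hx =>
    (isPFunctor_centerThompsonA hp2).normalizer_le _ P₁.2 (Subgroup.le_normalizer hx)
  have hQ : HasNormalPComplement p (L ⧸ R) := by
    refine S0659.result hp2 P₁ ?_
    obtain ⟨T⟩ : Nonempty (Sylow p M) := inferInstance
    have hTop : (T : Subgroup M) = ⊤ :=
      (T.3 ((P₁.2.to_le hM.le).of_equiv Subgroup.topEquiv.symm) le_top).symm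
    exact ⟨T, ⊥, inferInstance, hTop ▸ Subgroup.isComplement'_bot_top⟩
  -- the complement is abelian
  set N := pResidual p (L ⧸ R) with hNd
  have hNc : (Nat.card N).Coprime p := Transfer.hasNormalPComplement_iff_coprime_pResidual.mp hQ
  have hNP : (P₁ : Subgroup (L ⧸ R)) ⊓ N = ⊥ := (Transfer.inf_pResidual_eq_bot_iff P₁).mpr hQ
  have hsup : (P₁ : Subgroup (L ⧸ R)) ⊔ N = ⊤ := Transfer.sylow_sup_pResidual P₁
  haveI : N.Normal := Transfer.pResidual_normal
  have hNne : N ≠ ⊥ := by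
    intro e
    rw [e, sup_bot_eq] at hsup
    exact hP₁n (by rw [hsup]; infer_instance)
  have inv_trivial : ∀ S : Subgroup (L ⧸ R), S ≤ N →
      (P₁ : Subgroup (L ⧸ R)) ≤ Subgroup.normalizer (S : Set (L ⧸ R)) → S = ⊥ ∨ S = N := by
    intro S hS hnorm
    by_cases htop : (P₁ : Subgroup (L ⧸ R)) ⊔ S = ⊤
    · right
      refine le_antisymm hS fun x hx => ?_
      obtain ⟨s, hs, t, ht, rfl⟩ := Coprime.exists_mul_of_mem_sup hnorm
        (sup_comm (P₁ : Subgroup (L ⧸ R)) S ▸ htop.symm ▸ Subgroup.mem_top x)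
      have ht1 : t ∈ (P₁ : Subgroup (L ⧸ R)) ⊓ N :=
        ⟨ht, by simpa using N.mul_mem (N.inv_mem (hS hs)) hx⟩
      rw [hNP, Subgroup.mem_bot] at ht1
      simpa [ht1] using hs
    · left
      have := hmaxP₁ _ htop le_sup_left
      rw [← le_bot_iff, ← hNP]
      exact le_inf (le_sup_right.trans this.le) hS
  have hcopPN : (Nat.card (P₁ : Subgroup (L ⧸ R))).Coprime (Nat.card N) := by
    obtain ⟨k, hk⟩ := IsPGroup.iff_card.mp P₁.2
    rw [hk]; exact hNc.symm.pow_left k
  obtain ⟨q, hq, hqN⟩ := Nat.exists_prime_and_dvd ((Subgroup.one_lt_card_iff_ne_bot N).mpr hNne).ne'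
  haveI : Fact q.Prime := ⟨hq⟩
  haveI := Coprime.isSolvable_of_isPGroup P₁.2
  obtain ⟨S, hSN, hSq, hSi, hSP⟩ := Coprime.exists_invariant_sylow
    (le_top.trans_eq (Subgroup.normalizer_eq_top N).symm) hcopPN q
  have hSeq : S = N := (inv_trivial S hSN hSP).resolve_left (by
    rintro rfl
    rw [Subgroup.relIndex_bot_left] at hSi
    exact hSi hqN)
  haveI hNnil : Group.IsNilpotent N := by
    rw [← hSeq]; exact hSq.isNilpotent
  have hNab : ⁅N, N⁆ = ⊥ := by
    refine (inv_trivial ⁅N, N⁆ (Subgroup.commutator_le_right N N)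
      (le_top.trans_eq (Subgroup.normalizer_eq_top _).symm)).resolve_right ?_
    intro e
    exact hNne (Transfer.eq_bot_of_le_commutator le_rfl e.ge)
  refine Dickson.no_section_of_abelian_sylow_two hp2 fun T => ⟨⟨fun x y => ?_⟩⟩
  haveI := Fact.mk Nat.prime_two
  have hcop : ∀ {a : L}, (∃ k, a ^ 2 ^ k = 1) → (orderOf a).Coprime p := fun ⟨k, hk⟩ =>
    (((Nat.coprime_primes Nat.prime_two (Fact.out : p.Prime)).mpr hp2.symm).pow_left
      k).coprime_dvd_left (orderOf_dvd_of_pow_eq_one hk)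
  have hT : ∀ z : T, (orderOf (z : L)).Coprime p := fun z => hcop (by
    obtain ⟨k, hk⟩ := T.isPGroup' z
    exact ⟨k, congrArg Subtype.val hk⟩)
  have hTN : ∀ z : T, f z ∈ N := fun z =>
    Transfer.mem_pResidual_of_coprime ((hT z).coprime_dvd_left (orderOf_map_dvd f (z : L)))
  have h1 : ⁅(x : L), (y : L)⁆ ∈ R := by
    refine (QuotientGroup.eq_one_iff _).mp ?_
    show f ⁅(x : L), (y : L)⁆ = 1
    rw [map_commutatorElement, ← Subgroup.mem_bot, ← hNab]
    exact Subgroup.commutator_mem_commutator (hTN x) (hTN y)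
  exact commutatorElement_eq_one_iff_mul_comm.mp (Subtype.ext
    (Core.ThompsonComplement.eq_one_of_mem (Core.isPGroup_pCore p L) h1 (hT ⁅x, y⁆)))

variable {G : Type u} [Group G] [Finite G]

/-- The intersection of the members of a family inside `U`. -/
def interIn (𝔄 : Set (Subgroup G)) (U : Subgroup G) : Subgroup G := sInf {A | A ∈ 𝔄 ∧ A ≤ U}

theorem interIn_anti {𝔄 : Set (Subgroup G)} {U V : Subgroup G} (h : U ≤ V) :
    interIn 𝔄 V ≤ interIn 𝔄 U := sInf_le_sInf fun _ hA => ⟨hA.1, hA.2.trans h⟩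

theorem interIn_le_mem {𝔄 : Set (Subgroup G)} {U A : Subgroup G} (hA : A ∈ 𝔄) (hAU : A ≤ U) :
    interIn 𝔄 U ≤ A := sInf_le ⟨hA, hAU⟩

/-- A family of abelian subgroups of `T` with invariance and replacement. -/
structure AbFamily (T : Subgroup G) (𝔄 : Set (Subgroup G)) : Prop where
  le : ∀ A ∈ 𝔄, A ≤ T
  comm : ∀ A ∈ 𝔄, ⁅A, A⁆ = ⊥
  nonempty : 𝔄.Nonempty
  inv : ∀ U : Subgroup G, U ≤ T → (∃ A ∈ 𝔄, A ≤ U) →
    normalizer (U : Set G) ≤ normalizer (interIn 𝔄 U : Set G)
  repl : ∀ B : Subgroup G, B ≤ T → ⁅⁅B, B⁆, B⁆ = ⊥ → (∃ A ∈ 𝔄, ⁅B, B⁆ ≤ A ∧ ¬ B ≤ A) →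
    ∃ A ∈ 𝔄, ⁅B, B⁆ ≤ A ∧ ¬ B ≤ A ∧ B ≤ normalizer (A : Set G)

theorem AbFamily.interIn_le {T : Subgroup G} {𝔄 : Set (Subgroup G)} (h : AbFamily T 𝔄) :
    interIn 𝔄 T ≤ T := by
  obtain ⟨A, hA⟩ := h.nonempty
  exact (interIn_le_mem hA (h.le A hA)).trans (h.le A hA)

theorem AbFamily.inter_normal {S : Sylow p G} {𝔄 : Set (Subgroup G)}
    (h : AbFamily (S : Subgroup G) 𝔄)
    (hst : ∀ (Q : Subgroup G) [Q.Normal], IsPGroup p Q → ∀ a ∈ S,
      ⁅⁅Q, zpowers a⁆, zpowers a⁆ = ⊥ →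
        (QuotientGroup.mk a : G ⧸ centralizer (Q : Set G)) ∈ pCore p (G ⧸ centralizer (Q : Set G))) :
    ∀ (n : ℕ) (B : Subgroup G) [B.Normal], Nat.card B ≤ n → IsPGroup p B →
      (B ⊓ interIn 𝔄 (S : Subgroup G)).Normal := by
  intro n
  induction n with
  | zero => intro B _ h; exact absurd h (by simp [Nat.card_pos.ne'])
  | succ n ih =>
    intro B _ hn hB
    set Z := interIn 𝔄 (S : Subgroup G) with hZ
    set W := B ⊓ Z with hW
    have hBS : B ≤ (S : Subgroup G) := (Core.le_pCore inferInstance hB).trans (Core.pCore_le_sylow S)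
    have hex : ∃ A ∈ 𝔄, A ≤ (S : Subgroup G) := h.nonempty.elim fun A hA => ⟨A, hA, h.le A hA⟩
    have hSZ : (S : Subgroup G) ≤ normalizer (Z : Set G) :=
      Subgroup.le_normalizer.trans (h.inv _ le_rfl hex)
    set B₁ := Subgroup.normalClosure (W : Set G) with hB₁
    have hB₁B : B₁ ≤ B := Subgroup.normalClosure_le_normal (fun x hx => (mem_inf.mp hx).1)
    rcases lt_or_eq_of_le hB₁B with hlt | heq
    · have hc : Nat.card B₁ < Nat.card B := lt_of_le_of_ne (Subgroup.card_le_of_le hB₁B)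
        fun e => hlt.ne (eq_of_le_of_card_ge hB₁B e.ge)
      have h1 := ih B₁ (by omega) (hB.to_le hB₁B)
      have e : B₁ ⊓ Z = W := le_antisymm (inf_le_inf_right _ hB₁B)
        (le_inf (fun x hx => Subgroup.subset_normalClosure hx) inf_le_right)
      rwa [e] at h1
    by_contra hnot
    have hB1 : B ≠ ⊥ := fun e => hnot (by rw [hW, e, bot_inf_eq]; infer_instance)
    have hB'lt : ⁅B, B⁆ < B := by
      refine lt_of_le_of_ne (commutator_le_right B B) fun e => ?_
      haveI := hB.isNilpotent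
      haveI : Nontrivial B := (Subgroup.nontrivial_iff_ne_bot _).mpr hB1
      have h2 := Group.IsSolvable.commutator_lt_top_of_nontrivial B
      apply h2.ne
      refine Subgroup.map_injective B.subtype_injective ?_
      rw [_root_.commutator_def, Subgroup.map_commutator, ← MonoidHom.range_eq_map, Subgroup.range_subtype, e]
    have hn' : Nat.card (⁅B, B⁆ : Subgroup G) ≤ n := by
      have : Nat.card (⁅B, B⁆ : Subgroup G) < Nat.card B := lt_of_le_of_ne (Subgroup.card_le_of_le hB'lt.le)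
        fun e => hB'lt.ne (eq_of_le_of_card_ge hB'lt.le e.ge)
      omega
    haveI hD : (⁅B, B⁆ ⊓ Z).Normal := ih ⁅B, B⁆ hn' (hB.to_le hB'lt.le)
    set π := QuotientGroup.mk' (⁅B, B⁆ ⊓ Z) with hπ
    have hWC : W ≤ (centralizer ((B.map π : Subgroup _) : Set (G ⧸ (⁅B, B⁆ ⊓ Z)))).comap π := by
      intro w hw
      rw [Subgroup.mem_comap, mem_centralizer_iff]
      rintro _ ⟨b, hb, rfl⟩
      obtain ⟨hwB, hwZ⟩ := mem_inf.mp hw
      rw [← map_mul, ← map_mul, hπ, QuotientGroup.mk'_apply, QuotientGroup.mk'_apply, QuotientGroup.eq]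
      refine mem_inf.mpr ⟨?_, ?_⟩
      · have : (b * w)⁻¹ * (w * b) = ⁅w⁻¹, b⁻¹⁆ := by rw [commutatorElement_def]; group
        rw [this]
        exact commutator_mem_commutator (inv_mem hwB) (inv_mem hb)
      · have : (b * w)⁻¹ * (w * b) = w⁻¹ * (b⁻¹ * w * b) := by group
        rw [this]
        exact mul_mem (inv_mem hwZ) ((mem_normalizer_iff''.mp (hSZ (hBS hb)) w).mp hwZ)
    haveI hBm : (B.map π).Normal := Subgroup.Normal.map inferInstance π (QuotientGroup.mk'_surjective _)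
    haveI : ((centralizer ((B.map π : Subgroup _) : Set (G ⧸ (⁅B, B⁆ ⊓ Z)))).comap π).Normal :=
      Subgroup.Normal.comap inferInstance π
    have hBC := (Subgroup.normalClosure_le_normal hWC)
    rw [← hB₁, heq] at hBC
    have hB'Z : ⁅B, B⁆ ≤ Z := by
      have h1 : ⁅B, B⁆.map π = ⊥ := by
        rw [Subgroup.map_commutator, commutator_eq_bot_iff_le_centralizer]
        exact Subgroup.map_le_iff_le_comap.mpr hBC
      rw [Subgroup.map_eq_bot_iff, hπ, QuotientGroup.ker_mk'] at h1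
      exact h1.trans inf_le_right
    obtain ⟨A₀, hA₀⟩ := h.nonempty
    have hA₀S := h.le A₀ hA₀
    have hB3 : ⁅⁅B, B⁆, B⁆ = ⊥ := by
      have hWc : W ≤ centralizer ((⁅B, B⁆ : Subgroup G) : Set G) := fun w hw d hd => by
        refine commutatorElement_eq_one_iff_mul_comm.mp (Subgroup.mem_bot.mp ?_)
        rw [← h.comm A₀ hA₀]
        exact commutator_mem_commutator (interIn_le_mem hA₀ hA₀S (hB'Z hd))
          (interIn_le_mem hA₀ hA₀S hw.2)
      have := Subgroup.normalClosure_le_normal hWc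
      rw [← hB₁, heq] at this
      rw [commutator_eq_bot_iff_le_centralizer, Subgroup.le_centralizer_iff]
      exact this
    have hall : ∀ A ∈ 𝔄, B ≤ A := by
      by_contra hcon
      push Not at hcon
      obtain ⟨U, hU, hBU⟩ := hcon
      obtain ⟨A, hA, -, hBA, hBN⟩ :=
        h.repl B hBS hB3 ⟨U, hU, hB'Z.trans (interIn_le_mem hU (h.le U hU)), hBU⟩
      apply hBA
      -- the members acting quadratically
      set C := centralizer (B : Set G) with hC
      set L := (pCore p (G ⧸ C)).comap (QuotientGroup.mk' C) with hL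
      haveI : L.Normal := Subgroup.Normal.comap inferInstance _
      have hAL : A ≤ L := by
        intro a ha
        refine hst B hB a (h.le A hA ha) (le_bot_iff.mp ?_)
        have h1 : ⁅B, A⁆ ≤ A := by
          rw [commutator_le]
          intro x hx y hy
          rw [commutatorElement_def]
          exact mul_mem ((mem_normalizer_iff.mp (hBN hx) y).mp hy) (inv_mem hy)
        calc ⁅⁅B, zpowers a⁆, zpowers a⁆ ≤ ⁅⁅B, A⁆, A⁆ :=
              commutator_mono (commutator_mono le_rfl (zpowers_le.mpr ha)) (zpowers_le.mpr ha)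
          _ ≤ ⁅A, A⁆ := commutator_mono h1 le_rfl
          _ = ⊥ := h.comm A hA
      have hCL : C ≤ L := fun x hx => by
        rw [hL, Subgroup.mem_comap, QuotientGroup.mk'_apply, (QuotientGroup.eq_one_iff x).mpr hx]
        exact one_mem _
      have hk : ∃ k, C.relIndex L ∣ p ^ k := by
        obtain ⟨k, hk⟩ := IsPGroup.iff_card.mp (Core.isPGroup_pCore p (G ⧸ C))
        refine ⟨k, ?_⟩
        have hc := Subgroup.relIndex_comap (⊥ : Subgroup (G ⧸ C)) (QuotientGroup.mk' C) L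
        rw [MonoidHom.comap_bot, QuotientGroup.ker_mk', hL,
          Subgroup.map_comap_eq_self_of_surjective (QuotientGroup.mk'_surjective C),
          Subgroup.relIndex_bot_left, hk] at hc
        exact hc.dvd
      have hG := normalizer_inf_sup_eq_top S L C hCL hk
      set SL := (S : Subgroup G) ⊓ L with hSL
      have hASL : A ≤ SL := le_inf (h.le A hA) hAL
      have hZ1 : Z ≤ interIn 𝔄 SL := interIn_anti inf_le_left
      rw [← heq]
      refine (Subgroup.closure_le _).mpr fun g hg => ?_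
      obtain ⟨w, hw, hwg⟩ := Group.mem_conjugatesOfSet_iff.mp hg
      obtain ⟨y, rfl⟩ := isConj_iff.mp hwg
      obtain ⟨cc, hcc, n, hn, rfl⟩ := Coprime.exists_mul_of_mem_sup
        (le_of_le_of_eq le_top (Subgroup.normalizer_eq_top C).symm)
        (show y ∈ C ⊔ normalizer (SL : Set G) by rw [hG]; trivial)
      obtain ⟨hwB, hwZ⟩ := mem_inf.mp hw
      have hstep : n * w * n⁻¹ ∈ interIn 𝔄 SL :=
        (mem_normalizer_iff.mp (h.inv SL inf_le_left ⟨A, hA, hASL⟩ hn) w).mp (hZ1 hwZ)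
      have hfix : cc * (n * w * n⁻¹) * cc⁻¹ = n * w * n⁻¹ := by
        rw [← mem_centralizer_iff.mp hcc _ ((inferInstance : B.Normal).conj_mem w hwB n),
          mul_inv_cancel_right]
      rw [SetLike.mem_coe, mul_inv_rev,
        show cc * n * w * (n⁻¹ * cc⁻¹) = cc * (n * w * n⁻¹) * cc⁻¹ by group, hfix]
      exact interIn_le_mem hA hASL hstep
    -- all members centralize `B`
    set C := centralizer (B : Set G) with hC
    have hAC : ∀ A ∈ 𝔄, A ≤ C := fun A hA =>
      (commutator_eq_bot_iff_le_centralizer.mp (h.comm A hA)).trans (centralizer_le (hall A hA))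
    apply hnot
    refine Subgroup.normalizer_eq_top_iff.mp (eq_top_iff.mpr fun y _ => ?_)
    set SL := (S : Subgroup G) ⊓ C with hSL
    have hG : normalizer (SL : Set G) ⊔ C = ⊤ := by
      rw [sup_comm]
      exact normalizer_inf_sup_eq_top S C C le_rfl ⟨0, by simp⟩
    have hzz : interIn 𝔄 SL = Z := le_antisymm
      (le_sInf fun A hA => interIn_le_mem hA.1 (le_inf (h.le A hA.1) (hAC A hA.1)))
      (interIn_anti inf_le_left)
    have hnW : normalizer (SL : Set G) ≤ normalizer (W : Set G) := by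
      intro x hx
      refine mem_normalizer_fintype fun w hw => mem_inf.mpr
        ⟨(inferInstance : B.Normal).conj_mem w (mem_inf.mp hw).1 x, ?_⟩
      have h2 := h.inv SL inf_le_left ⟨A₀, hA₀, le_inf hA₀S (hAC A₀ hA₀)⟩ hx
      rw [hzz] at h2
      exact (mem_normalizer_iff.mp h2 w).mp (mem_inf.mp hw).2
    have hcW : C ≤ normalizer (W : Set G) := by
      intro x hx
      refine mem_normalizer_fintype fun w hw => ?_
      rw [SetLike.mem_coe, ← mem_centralizer_iff.mp hx w (mem_inf.mp hw).1, mul_inv_cancel_right]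
      exact hw
    exact (sup_le hnW hcW) (hG ▸ mem_top y)

/-- The intersection of the family is normal in a stable constrained group. -/
theorem AbFamily.normal {S : Sylow p G} {𝔄 : Set (Subgroup G)}
    (h : AbFamily (S : Subgroup G) 𝔄) (hc : centralizer (pCore p G : Set G) ≤ pCore p G)
    (hst : ∀ (Q : Subgroup G) [Q.Normal], IsPGroup p Q → ∀ a ∈ S,
      ⁅⁅Q, zpowers a⁆, zpowers a⁆ = ⊥ →
        (QuotientGroup.mk a : G ⧸ centralizer (Q : Set G)) ∈ pCore p (G ⧸ centralizer (Q : Set G))) :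
    (interIn 𝔄 (S : Subgroup G)).Normal := by
  set O := pCore p G with hO
  set Z := interIn 𝔄 (S : Subgroup G) with hZ
  obtain ⟨A, hA⟩ := h.nonempty
  have hAS := h.le A hA
  have hSN : (S : Subgroup G) ≤ normalizer (Z : Set G) :=
    Subgroup.le_normalizer.trans (h.inv _ le_rfl ⟨A, hA, hAS⟩)
  have hZc : ⁅Z, Z⁆ = ⊥ := le_bot_iff.mp
    ((commutator_mono (interIn_le_mem hA hAS) (interIn_le_mem hA hAS)).trans (h.comm A hA).le)
  have hZO : Z ≤ O := by
    intro z hz
    have hOZ : ⁅O, Z⁆ ≤ Z := by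
      rw [commutator_le]
      intro x hx y hy
      rw [commutatorElement_def]
      exact mul_mem ((mem_normalizer_iff.mp (hSN (Core.pCore_le_sylow S hx)) y).mp hy) (inv_mem hy)
    have h1 := hst O (Core.isPGroup_pCore p G) z (h.interIn_le hz) (le_bot_iff.mp (by
      calc ⁅⁅O, zpowers z⁆, zpowers z⁆ ≤ ⁅⁅O, Z⁆, Z⁆ :=
            commutator_mono (commutator_mono le_rfl (zpowers_le.mpr hz)) (zpowers_le.mpr hz)
        _ ≤ ⁅Z, Z⁆ := commutator_mono hOZ le_rfl
        _ = ⊥ := hZc))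
    haveI : ((pCore p (G ⧸ centralizer (O : Set G))).comap
      (QuotientGroup.mk' (centralizer (O : Set G)))).Normal := Subgroup.Normal.comap inferInstance _
    refine Core.le_pCore this ?_ h1
    refine (Core.isPGroup_pCore p _).comap_of_ker_isPGroup _ ?_
    rw [QuotientGroup.ker_mk']
    exact (Core.isPGroup_pCore p G).to_le hc
  have h2 := h.inter_normal hst _ O le_rfl (Core.isPGroup_pCore p G)
  rwa [inf_eq_right.mpr hZO] at h2

theorem interIn_comap {H : Subgroup G} {T : Subgroup G} {𝔄 : Set (Subgroup G)} (hle : ∀ A ∈ 𝔄, A ≤ T)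
    (hTH : T ≤ H) (U : Subgroup H) (hex : ∃ A ∈ 𝔄, A ≤ U.map H.subtype) :
    (interIn ((fun A => A.subgroupOf H) '' 𝔄) U).map H.subtype = interIn 𝔄 (U.map H.subtype) := by
  ext x
  constructor
  · rintro ⟨y, hy, rfl⟩
    refine Subgroup.mem_sInf.mpr fun A hA => ?_
    exact Subgroup.mem_sInf.mp hy _ ⟨⟨A, hA.1, rfl⟩, fun z hz => by
      obtain ⟨w, hw, hwz⟩ := hA.2 hz
      rwa [H.subtype_injective hwz] at hw⟩
  · intro hx
    obtain ⟨A, hA, hAU⟩ := hex
    have hxH : x ∈ H := hTH (hle A hA (Subgroup.mem_sInf.mp hx A ⟨hA, hAU⟩))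
    refine ⟨⟨x, hxH⟩, Subgroup.mem_sInf.mpr ?_, rfl⟩
    rintro _ ⟨⟨B, hB, rfl⟩, hBU⟩
    exact Subgroup.mem_sInf.mp hx B ⟨hB, fun z hz => ⟨⟨z, hTH (hle B hB hz)⟩, hBU hz, rfl⟩⟩

theorem AbFamily.restrict {T : Subgroup G} {𝔄 : Set (Subgroup G)} (h : AbFamily T 𝔄) {H : Subgroup G}
    (hTH : T ≤ H) : AbFamily (T.subgroupOf H) ((fun A => A.subgroupOf H) '' 𝔄) where
  le := by rintro _ ⟨A, hA, rfl⟩; exact Subgroup.comap_mono (h.le A hA)
  comm := by
    rintro _ ⟨A, hA, rfl⟩
    rw [← Subgroup.map_eq_bot_iff_of_injective _ H.subtype_injective, map_commutator,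
      Subgroup.map_subgroupOf_eq_of_le ((h.le A hA).trans hTH), h.comm A hA]
  nonempty := h.nonempty.image _
  inv := by
    rintro U hU ⟨_, ⟨A, hA, rfl⟩, hAU⟩ g hg
    have hUT : U.map H.subtype ≤ T := by rintro _ ⟨u, hu, rfl⟩; exact hU hu
    have hAU' : A ≤ U.map H.subtype := fun a ha => ⟨⟨a, hTH (h.le A hA ha)⟩, hAU ha, rfl⟩
    have h1 : (g : G) ∈ normalizer ((interIn 𝔄 (U.map H.subtype) : Subgroup G) : Set G) :=
      h.inv _ hUT ⟨A, hA, hAU'⟩ (Subgroup.le_normalizer_map H.subtype ⟨g, hg, rfl⟩)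
    rw [← interIn_comap h.le hTH U ⟨A, hA, hAU'⟩] at h1
    refine mem_normalizer_fintype fun x hx => ?_
    obtain ⟨y, hy, hye⟩ := (mem_normalizer_iff.mp h1 (x : G)).mp ⟨x, hx, rfl⟩
    rwa [show g * x * g⁻¹ = y from Subtype.ext hye.symm]
  repl := by
    rintro B hB hB3 ⟨_, ⟨A, hA, rfl⟩, hA1, hA2⟩
    have hBT : B.map H.subtype ≤ T := by rintro _ ⟨u, hu, rfl⟩; exact hB hu
    obtain ⟨A', hA', h1, h2, h3⟩ := h.repl (B.map H.subtype) hBT
      (by rw [← map_commutator, ← map_commutator, hB3, Subgroup.map_bot])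
      ⟨A, hA, by rw [← map_commutator]; rintro _ ⟨x, hx, rfl⟩; exact hA1 hx,
        fun hle => hA2 fun x hx => hle ⟨x, hx, rfl⟩⟩
    refine ⟨A'.subgroupOf H, ⟨A', hA', rfl⟩, ?_, fun hle => h2 ?_, fun b hb => mem_normalizer_fintype fun x hx => ?_⟩
    · rw [← map_commutator] at h1
      exact fun x hx => h1 ⟨x, hx, rfl⟩
    · rintro _ ⟨x, hx, rfl⟩; exact hle hx
    · exact (mem_normalizer_iff.mp (h3 ⟨b, hb, rfl⟩) (x : G)).mp hx

/-- The normalizer of the intersection of the family is not a `p`-group. -/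
theorem AbFamily.exists_coprime (hp : p ≠ 2) (T : Sylow p G) {𝔄 : Set (Subgroup G)}
    (h : AbFamily (T : Subgroup G) 𝔄) (hC : centralizer ((pCore p G : Subgroup G) : Set G) ≤ pCore p G)
    (hL : ¬ IsPGroup p G) :
    ∃ g ∈ normalizer ((interIn 𝔄 (T : Subgroup G) : Subgroup G) : Set G), g ≠ 1 ∧ (orderOf g).Coprime p := by
  refine exists_coprime_ne_one fun hN => ?_
  set K := normalizer ((interIn 𝔄 (T : Subgroup G) : Subgroup G) : Set G) with hK
  have hex : ∃ A ∈ 𝔄, A ≤ (T : Subgroup G) := h.nonempty.elim fun A hA => ⟨A, hA, h.le A hA⟩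
  have hNT : normalizer ((T : Subgroup G) : Set G) ≤ K := h.inv _ le_rfl hex
  obtain ⟨H, ⟨hTH, hHp⟩, hmin⟩ := (wellFounded_lt (α := Subgroup G)).has_min
    {H : Subgroup G | (T : Subgroup G) ≤ H ∧ ¬ IsPGroup p H}
    ⟨⊤, le_top, fun h' => hL (h'.of_equiv Subgroup.topEquiv)⟩
  set TH := T.subtype hTH with hTH'
  have hTHc : (TH : Subgroup H) = (T : Subgroup G).subgroupOf H := Sylow.coe_subtype ..
  have hTHn : ¬ (TH : Subgroup H).Normal := fun hn => hHp (hN.to_le (le_trans (fun x hx => ?_) hNT))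
  swap
  · refine mem_normalizer_fintype fun t ht => ?_
    have h1 := hn.conj_mem ⟨t, hTH ht⟩ (by rw [hTHc]; exact ht) ⟨x, hx⟩
    rw [hTHc] at h1
    exact h1
  have hmax : ∀ J : Subgroup H, J ≠ ⊤ → (TH : Subgroup H) ≤ J → J = (TH : Subgroup H) := by
    intro J hJ hTJ
    refine TH.3 (by_contra fun hJp => ?_) hTJ
    refine hmin (J.map H.subtype) ⟨fun t ht => ⟨⟨t, hTH ht⟩, hTJ (by rw [hTHc]; exact ht), rfl⟩,
      fun h' => hJp (h'.of_equiv (J.equivMapOfInjective _ H.subtype_injective).symm)⟩ ?_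
    refine lt_of_le_of_ne (Subgroup.map_subtype_le J) fun e => hJ ?_
    refine Subgroup.map_injective H.subtype_injective ?_
    rw [e, ← MonoidHom.range_eq_map, Subgroup.range_subtype]
  have hno := no_section_of_maximal hp TH hmax hTHn
  have hCH : centralizer ((pCore p H : Subgroup H) : Set H) ≤ pCore p H := by
    have hle : (pCore p G).subgroupOf H ≤ pCore p H := Core.le_pCore inferInstance
      ((Core.isPGroup_pCore p G).comap_subtype)
    intro x hx
    refine hle (hC fun o ho => ?_)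
    exact congrArg Subtype.val (hx ⟨o, hTH (Core.pCore_le_sylow T ho)⟩ (hle ho))
  have hfam : AbFamily (TH : Subgroup H) ((fun A => A.subgroupOf H) '' 𝔄) := hTHc ▸ h.restrict hTH
  have hn := hfam.normal hCH
    (pStableOn_hst (fun Q _ hQ => Dickson.isPStableOn_of_no_section hp hno Q hQ) TH)
  refine hHp (hN.to_le fun x hx => ?_)
  rw [hTHc] at hn
  have hmap : ((T : Subgroup G).subgroupOf H).map H.subtype = (T : Subgroup G) :=
    Subgroup.map_subgroupOf_eq_of_le hTH
  have h1 := interIn_comap h.le hTH ((T : Subgroup G).subgroupOf H) (by rw [hmap]; exact hex)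
  rw [hmap] at h1
  rw [hK, ← h1]
  exact Subgroup.le_normalizer_map H.subtype ⟨⟨x, hx⟩, by rw [Subgroup.normalizer_eq_top]; trivial, rfl⟩

end Cfsg.Agent.FusionZJ
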