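import Cfsg.Agent.FusionZJ.QdStable
import Cfsg.Agent.PLocal.Functors
import Cfsg.Agent.S2795

/-!
The fusion in `Qd(p)` of the translations is not controlled by a local subgroup other than the whole group.
-/

set_option autoImplicit false
set_option linter.style.haveILetI false

namespace Cfsg.Agent.FusionZJ

open Cfsg Cfsg.Agent Matrix Subgroup

variable {p : ℕ}

/-- A translation. -/
def qdTr (x y : ZMod p) : ↥(Cfsg.qd p) :=
  ⟨⟨!![1, 0, x; 0, 1, y; 0, 0, 1], by simp [Matrix.det_fin_three]⟩,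
    Subgroup.subset_closure ⟨rfl, rfl, rfl⟩⟩

theorem qdTr_mem (x y : ZMod p) : qdTr x y ∈ qdV p := mem_qdV_iff.mpr ⟨rfl, rfl, rfl, rfl⟩

theorem eq_qdTr {v : ↥(Cfsg.qd p)} (hv : v ∈ qdV p) :
    ∃ x y, v = qdTr x y := by
  obtain ⟨e1, e2, e3, e4⟩ := mem_qdV_iff.mp hv
  have r := S3835.qd_row v.2
  refine ⟨(v.1 : Matrix (Fin 3) (Fin 3) (ZMod p)) 0 2, (v.1 : Matrix (Fin 3) (Fin 3) (ZMod p)) 1 2,
    Subtype.ext (Subtype.ext ?_)⟩
  ext i j
  fin_cases i <;> fin_cases j <;> simp [qdTr, e1, e2, e3, e4, r]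

theorem qdTr_zero : qdTr (0 : ZMod p) 0 = 1 := by
  refine Subtype.ext (Subtype.ext ?_)
  ext i j
  fin_cases i <;> fin_cases j <;> simp [qdTr, Matrix.one_apply]

variable [Fact p.Prime]

theorem exists_conj_first (x y : ZMod p) (h : x ≠ 0 ∨ y ≠ 0) :
    ∃ g : ↥(Cfsg.qd p), g * qdTr 1 0 * g⁻¹ = qdTr x y := by
  obtain ⟨b, d, hdet⟩ : ∃ b d : ZMod p, x * d - b * y = 1 := by
    by_cases hx : x = 0
    · have hy : y ≠ 0 := h.resolve_left (fun hne => hne hx)
      exact ⟨-y⁻¹, 0, by rw [hx]; field_simp; ring⟩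
    · exact ⟨0, x⁻¹, by field_simp; ring⟩
  refine ⟨⟨⟨!![x, b, 0; y, d, 0; 0, 0, 1], by simp [Matrix.det_fin_three]; linear_combination hdet⟩,
    Subgroup.subset_closure ⟨rfl, rfl, rfl⟩⟩, ?_⟩
  rw [mul_inv_eq_iff_eq_mul]
  refine Subtype.ext (Subtype.ext ?_)
  rw [qd_coe_mul, qd_coe_mul]
  ext i j
  fin_cases i <;> fin_cases j <;> simp [qdTr, Matrix.mul_apply, Fin.sum_univ_three]

theorem exists_conj_qdV {v w : ↥(Cfsg.qd p)} (hv : v ∈ qdV p) (hw : w ∈ qdV p) (hv1 : v ≠ 1) (hw1 : w ≠ 1) :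
    ∃ g : ↥(Cfsg.qd p), g * v * g⁻¹ = w := by
  obtain ⟨a, b, rfl⟩ := eq_qdTr hv
  obtain ⟨c, d, rfl⟩ := eq_qdTr hw
  obtain ⟨g, hg⟩ := exists_conj_first a b (by
    by_contra h; push Not at h; exact hv1 (by rw [h.1, h.2, qdTr_zero]))
  obtain ⟨k, hk⟩ := exists_conj_first c d (by
    by_contra h; push Not at h; exact hw1 (by rw [h.1, h.2, qdTr_zero]))
  exact ⟨k * g⁻¹, by rw [← hg, ← hk]; group⟩

theorem qdA_comm_qdTr (k x : ZMod p) : S2795.qdA k * qdTr x 0 = qdTr x 0 * S2795.qdA k := by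
  refine Subtype.ext (Subtype.ext ?_)
  rw [qd_coe_mul, qd_coe_mul]
  ext i j
  fin_cases i <;> fin_cases j <;> simp [qdTr, S2795.qdA, Matrix.mul_apply, Fin.sum_univ_three]

/-- No subgroup like `Z(J(T))` controls the fusion of the translations in `Qd(p)`. -/
theorem qd_not_controls {X : Type*} [Group X] [Finite X] (e : X ≃* ↥(Cfsg.qd p))
    (h : ∀ T : Sylow p X, ControlsStrongFusion p (centerThompsonAOf (T : Subgroup X))) : False := by
  set V := (qdV p).map e.symm.toMonoidHom with hVdef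
  haveI hVn : V.Normal := Subgroup.Normal.map inferInstance _ e.symm.surjective
  have hVp : IsPGroup p V := qdFrame.pgroup.map _
  have hcV : centralizer (V : Set X) ≤ V := fun x hx =>
    ⟨e x, qdFrame.cent (fun v hv => e.symm.injective (by
      rw [map_mul, map_mul, MulEquiv.symm_apply_apply]
      exact hx _ ⟨v, hv, rfl⟩)), e.symm_apply_apply x⟩
  set a := e.symm (S2795.qdA 1) with ha
  have hap : IsPGroup p (zpowers a) := by
    refine fun x => ⟨1, ?_⟩
    obtain ⟨n, hn⟩ := Subgroup.mem_zpowers_iff.mp x.2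
    apply Subtype.ext
    rw [pow_one, SubmonoidClass.coe_pow, ← hn, ← zpow_natCast, ← _root_.zpow_mul, mul_comm, _root_.zpow_mul, zpow_natCast,
      ha, ← map_pow]
    have : ∀ k : ℕ, S2795.qdA (1 : ZMod p) ^ k = S2795.qdA (k : ZMod p) := fun k => by
      induction k with
      | zero => simp [S2795.qdA_zero]
      | succ k ih => rw [pow_succ, ih, S2795.qdA_mul, Nat.cast_succ]
    rw [this, ZMod.natCast_self, S2795.qdA_zero, map_one, _root_.one_zpow]
    rfl
  obtain ⟨T, hT⟩ := (hVp.to_sup_of_normal_left hap : IsPGroup p (V ⊔ zpowers a : Subgroup X)).exists_le_sylow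
  set Z := centerThompsonAOf (T : Subgroup X) with hZ
  have hZT : Z ≤ (T : Subgroup X) := PLocal.centerThompsonAOf_le _
  have hVT : V ≤ (T : Subgroup X) := le_sup_left.trans hT
  have hV1 : V ≠ ⊥ := fun hb => by
    have h1 : e.symm (qdTr 1 0) = 1 := Subgroup.mem_bot.mp (hb ▸ ⟨_, qdTr_mem 1 0, rfl⟩)
    have h2 := congrArg (fun z : ↥(Cfsg.qd p) => (z.1 : Matrix (Fin 3) (Fin 3) (ZMod p)) 0 2)
      (e.symm.injective (h1.trans (map_one _).symm))
    simp [qdTr, Matrix.one_apply] at h2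
  have hTne : (T : Subgroup X) ≠ ⊥ := fun hb => hV1 (le_bot_iff.mp (hb ▸ hVT))
  have hZ1 : Z ≠ ⊥ := PLocal.centerThompsonAOf_ne_bot T.2 hTne
  obtain ⟨U, hZU, hU⟩ := h T
  have hVU : V ≤ (U : Subgroup X) := (Core.le_pCore hVn hVp).trans (Core.pCore_le_sylow U)
  have hnot : ¬ V ≤ Z := by
    intro hVZ
    have hJ : thompsonSubgroupAOf (T : Subgroup X) ≤ centralizer (V : Set X) := fun j hj v hv =>
      ((hVZ hv).2 j hj).symm
    have hall : ∀ M ∈ PLocal.maxIn (PLocal.IsAb (G := X)) (T : Subgroup X), M ≤ V := fun M hM =>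
      (((Subgroup.map_subgroupOf_eq_of_le hM.1).ge.trans
        (Subgroup.map_mono (le_sSup (PLocal.maxIn_ab_iff.mp hM).2))).trans hJ).trans hcV
    let A : Subgroup ↥(Cfsg.qd p) := Subgroup.closure (Set.range (fun k : ZMod p => S2795.qdA k) ∪
      Set.range (fun x : ZMod p => qdTr x 0))
    have hAab : IsMulCommutative A := by
      refine Subgroup.isMulCommutative_closure ?_
      rintro _ (⟨k, rfl⟩ | ⟨x, rfl⟩) _ (⟨l, rfl⟩ | ⟨y, rfl⟩)
      · simp only [S2795.qdA_mul, add_comm]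
      · exact qdA_comm_qdTr k y
      · exact (qdA_comm_qdTr l x).symm
      · simp only
        refine Subtype.ext (Subtype.ext ?_)
        rw [qd_coe_mul, qd_coe_mul]
        ext i j
        fin_cases i <;> fin_cases j <;> simp [qdTr, Matrix.mul_apply, Fin.sum_univ_three, add_comm]
    set A' := A.map e.symm.toMonoidHom with hA'
    have hA'T : A' ≤ (T : Subgroup X) := by
      rw [hA', Subgroup.map_le_iff_le_comap, Subgroup.closure_le]
      rintro _ (⟨k, rfl⟩ | ⟨x, rfl⟩)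
      · haveI : NeZero p := ⟨(Fact.out : p.Prime).ne_zero⟩
        refine hT (Subgroup.mem_sup_right ⟨k.val, ?_⟩)
        show a ^ (k.val : ℤ) = e.symm (S2795.qdA k)
        rw [zpow_natCast, ha, ← map_pow]
        congr 1
        conv_rhs => rw [← ZMod.natCast_zmod_val k]
        generalize k.val = n
        induction n with
        | zero => simp [S2795.qdA_zero]
        | succ n ih => rw [pow_succ, ih, S2795.qdA_mul, Nat.cast_succ]
      · exact hVT ⟨_, qdTr_mem x 0, rfl⟩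
    have hA'ab : PLocal.IsAb A' := by
      haveI := hAab
      exact Subgroup.map_isMulCommutative _ _
    have hcard : Nat.card (qdV p) ≤ Nat.card A := by
      refine Nat.card_le_card_of_injective (fun v => ⟨S2795.qdA ((v.1.1 : Matrix (Fin 3) (Fin 3) (ZMod p)) 1 2) *
        qdTr ((v.1.1 : Matrix (Fin 3) (Fin 3) (ZMod p)) 0 2) 0,
        mul_mem (Subgroup.subset_closure (Or.inl ⟨_, rfl⟩)) (Subgroup.subset_closure (Or.inr ⟨_, rfl⟩))⟩) ?_
      intro v w hvw
      have e1 := congrArg (fun z : A => (z.1.1 : Matrix (Fin 3) (Fin 3) (ZMod p)) 0 1) hvw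
      have e2 := congrArg (fun z : A => (z.1.1 : Matrix (Fin 3) (Fin 3) (ZMod p)) 0 2) hvw
      simp only [qd_coe_mul] at e1 e2
      simp [qdTr, S2795.qdA, Matrix.mul_apply, Fin.sum_univ_three] at e1 e2
      obtain ⟨a1, b1, c1, d1⟩ := mem_qdV_iff.mp v.2
      obtain ⟨a2, b2, c2, d2⟩ := mem_qdV_iff.mp w.2
      have r1 := S3835.qd_row v.1.2
      have r2 := S3835.qd_row w.1.2
      refine Subtype.ext (Subtype.ext (Subtype.ext ?_))
      ext i j
      fin_cases i <;> fin_cases j <;> simp [a1, b1, c1, d1, a2, b2, c2, d2, r1, r2, e1, e2]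
    obtain ⟨M, hM⟩ := PLocal.maxIn_nonempty (P := PLocal.IsAb (G := X)) PLocal.isAb_bot (T : Subgroup X)
    have h1 : Nat.card M ≤ Nat.card A' := by
      rw [hA', Subgroup.card_map_of_injective e.symm.injective]
      refine (Subgroup.card_le_of_le (hall M hM)).trans ?_
      rw [hVdef, Subgroup.card_map_of_injective e.symm.injective]
      exact hcard
    have hA'M : A' ∈ PLocal.maxIn (PLocal.IsAb (G := X)) (T : Subgroup X) :=
      ⟨hA'T, hA'ab, fun D hD hD' => (hM.2.2 D hD hD').trans h1⟩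
    obtain ⟨v, hv, hve⟩ := hall A' hA'M ⟨S2795.qdA 1, Subgroup.subset_closure (Or.inl ⟨1, rfl⟩), rfl⟩
    have hmem := e.symm.injective hve ▸ hv
    have := (mem_qdV_iff.mp hmem).2.1
    simp [S2795.qdA] at this
  -- a proper nontrivial subgroup of `V` invariant under the normalizer of `Z`
  obtain ⟨W, hWV, hW1, hWne, hWn⟩ : ∃ W, W ≤ V ∧ W ≠ ⊥ ∧ ¬ V ≤ W ∧
      ∀ x ∈ normalizer (Z : Set X), ∀ w ∈ W, x * w * x⁻¹ ∈ W := by
    by_cases hZV : Z ≤ V
    · exact ⟨Z, hZV, hZ1, hnot, fun x hx w hw => (mem_normalizer_iff.mp hx w).mp hw⟩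
    refine ⟨V ⊓ centralizer (Z : Set X), inf_le_left, fun hb => ?_, fun hle => hZV fun z hz =>
      hcV fun v hv => ((hle hv).2 z hz).symm, fun x hx w hw => ⟨hVn.conj_mem w hw.1 x, fun z hz => ?_⟩⟩
    · have hd : p ∣ Nat.card (V : Set X) := (by
        obtain ⟨k, hk0, hk⟩ := hVp.nontrivial_iff_card.mp ((Subgroup.nontrivial_iff_ne_bot V).mpr hV1)
        show p ∣ Nat.card V
        rw [hk]; exact dvd_pow_self p hk0.ne')
      obtain ⟨v, hv1, hv2, hvc⟩ := Core.RankTwoQd.exists_fixed T.2 (V : Set X) V.one_mem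
        (fun x _ v hv => hVn.conj_mem v hv x) hd
      exact hv2 (Subgroup.mem_bot.mp (hb ▸ ⟨hv1, fun z hz => hvc z (hZT hz)⟩))
    · have h1 := hw.2 _ ((mem_normalizer_iff''.mp hx z).mp hz)
      calc z * (x * w * x⁻¹) = x * (x⁻¹ * z * x * w) * x⁻¹ := by group
        _ = x * (w * (x⁻¹ * z * x)) * x⁻¹ := by rw [h1]
        _ = x * w * x⁻¹ * z := by group
  obtain ⟨w, hw, hw1⟩ := (Subgroup.bot_or_exists_ne_one W).resolve_left hW1
  obtain ⟨v, hv, hvW⟩ : ∃ v ∈ V, v ∉ W := SetLike.not_le_iff_exists.mp hWne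
  obtain ⟨v', hv', rfl⟩ := hv
  obtain ⟨w', hw', rfl⟩ := hWV hw
  obtain ⟨g, hg⟩ := exists_conj_qdV hw' hv'
    (fun he => hw1 (by rw [he, map_one])) (fun he => hvW (by rw [he, map_one]; exact W.one_mem))
  have hge : e.symm g * e.symm w' * (e.symm g)⁻¹ = e.symm v' := by
    rw [← map_inv, ← map_mul, ← map_mul, hg]
  obtain ⟨x, hx, hxe⟩ := (hU {e.symm w'} (Set.singleton_subset_iff.mpr (hVU ⟨w', hw', rfl⟩))).2 (e.symm g) (by
    rintro _ ⟨_, rfl, rfl⟩
    show e.symm g * e.symm w' * (e.symm g)⁻¹ ∈ (U : Subgroup X)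
    rw [hge]; exact hVU ⟨v', hv', rfl⟩)
  have h3 := hWn x hx _ hw
  exact hvW (by simpa using (hge.symm.trans (hxe _ rfl)).symm ▸ h3)

end Cfsg.Agent.FusionZJ
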