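import Cfsg.Agent.FusionZJ.QdFusion
import Cfsg.Prelude.Def_ConjugacyFunctors

/-!
The Sylow subgroup of `Qd(p)`, its automorphism interchanging the two abelian subgroups, and the
normalizers of its characteristic subgroups.
-/

set_option autoImplicit false
set_option linter.style.haveILetI false
set_option linter.unusedSectionVars false

namespace Cfsg.Agent.FusionZJ

open Cfsg Cfsg.Agent Matrix Subgroup

variable {p : ℕ} [Fact p.Prime]

/-- An upper unitriangular element. -/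
def qdU (k x y : ZMod p) : ↥(Cfsg.qd p) :=
  ⟨⟨!![1, k, x; 0, 1, y; 0, 0, 1], by simp [Matrix.det_fin_three]⟩,
    Subgroup.subset_closure ⟨rfl, rfl, rfl⟩⟩

theorem qdU_mul (k x y l x' y' : ZMod p) :
    qdU k x y * qdU l x' y' = qdU (k + l) (x + x' + k * y') (y + y') := by
  refine Subtype.ext (Subtype.ext ?_)
  rw [qd_coe_mul]
  ext i j
  fin_cases i <;> fin_cases j <;> simp [qdU, Matrix.mul_apply, Fin.sum_univ_three]
  all_goals ring

theorem qdU_zero : qdU (0 : ZMod p) 0 0 = 1 := by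
  refine Subtype.ext (Subtype.ext ?_)
  ext i j
  fin_cases i <;> fin_cases j <;> simp [qdU, Matrix.one_apply]

theorem qdU_inj {k x y l x' y' : ZMod p} (h : qdU k x y = qdU l x' y') : k = l ∧ x = x' ∧ y = y' := by
  have e : ∀ i j : Fin 3, _ := fun i j => congrArg (fun z : ↥(Cfsg.qd p) =>
    (z.1 : Matrix (Fin 3) (Fin 3) (ZMod p)) i j) h
  exact ⟨by simpa [qdU] using e 0 1, by simpa [qdU] using e 0 2, by simpa [qdU] using e 1 2⟩

/-- The upper unitriangular subgroup. -/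
def qdP (p : ℕ) [Fact p.Prime] : Subgroup ↥(Cfsg.qd p) where
  carrier := {g | ∃ k x y : ZMod p, g = qdU k x y}
  one_mem' := ⟨0, 0, 0, qdU_zero.symm⟩
  mul_mem' := by
    rintro _ _ ⟨k, x, y, rfl⟩ ⟨l, x', y', rfl⟩
    exact ⟨_, _, _, qdU_mul k x y l x' y'⟩
  inv_mem' := by
    rintro _ ⟨k, x, y, rfl⟩
    exact ⟨-k, k * y - x, -y, inv_eq_of_mul_eq_one_right (by rw [qdU_mul, ← qdU_zero]; congr 1 <;> ring)⟩

theorem qdU_mem (k x y : ZMod p) : qdU k x y ∈ qdP p := ⟨k, x, y, rfl⟩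

theorem qdTr_eq (x y : ZMod p) : qdTr x y = qdU 0 x y := rfl

theorem qdV_le_qdP : qdV p ≤ qdP p := fun v hv => by
  obtain ⟨x, y, rfl⟩ := eq_qdTr hv
  exact qdU_mem 0 x y

theorem qdU_mem_qdV {k x y : ZMod p} : qdU k x y ∈ qdV p ↔ k = 0 := by
  rw [mem_qdV_iff]
  simp [qdU]

theorem card_qdP : Nat.card (qdP p) = p ^ 3 := by
  let f : ZMod p × ZMod p × ZMod p → qdP p := fun t => ⟨qdU t.1 t.2.1 t.2.2, qdU_mem _ _ _⟩
  have hf : Function.Bijective f := by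
    refine ⟨fun a b h => ?_, fun ⟨g, k, x, y, e⟩ => ⟨⟨k, x, y⟩, Subtype.ext e.symm⟩⟩
    obtain ⟨h1, h2, h3⟩ := qdU_inj (congrArg Subtype.val h)
    exact Prod.ext h1 (Prod.ext h2 h3)
  rw [← Nat.card_eq_of_bijective f hf, Nat.card_prod, Nat.card_prod, Nat.card_zmod]
  ring

theorem isPGroup_qdP : IsPGroup p (qdP p) := IsPGroup.of_card (n := 3) card_qdP

/-- The block upper triangular subgroup. -/
def qdB (p : ℕ) [Fact p.Prime] : Subgroup ↥(Cfsg.qd p) where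
  carrier := {g | (g.1 : Matrix (Fin 3) (Fin 3) (ZMod p)) 1 0 = 0}
  one_mem' := by simp
  mul_mem' := by
    intro a b (ha : (a.1 : Matrix (Fin 3) (Fin 3) (ZMod p)) 1 0 = 0)
      (hb : (b.1 : Matrix (Fin 3) (Fin 3) (ZMod p)) 1 0 = 0)
    show ((a * b : ↥(Cfsg.qd p)).1 : Matrix (Fin 3) (Fin 3) (ZMod p)) 1 0 = 0
    rw [qd_coe_mul]
    simp [Matrix.mul_apply, Fin.sum_univ_three, ha, hb, S3835.qd_row b.2]
  inv_mem' := by
    intro a (ha : (a.1 : Matrix (Fin 3) (Fin 3) (ZMod p)) 1 0 = 0)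
    show ((a⁻¹ : ↥(Cfsg.qd p)).1 : Matrix (Fin 3) (Fin 3) (ZMod p)) 1 0 = 0
    rw [Subgroup.coe_inv, Matrix.SpecialLinearGroup.coe_inv, Matrix.adjugate_fin_three]
    simp [ha, S3835.qd_row a.2]

theorem qdP_le_qdB : qdP p ≤ qdB p := by
  rintro _ ⟨k, x, y, rfl⟩
  show ((qdU k x y).1 : Matrix (Fin 3) (Fin 3) (ZMod p)) 1 0 = 0
  simp [qdU]

/-- The diagonal character of the triangular subgroup. -/
def qdChi (p : ℕ) [Fact p.Prime] : qdB p →* ZMod p where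
  toFun g := (g.1.1 : Matrix (Fin 3) (Fin 3) (ZMod p)) 0 0
  map_one' := by simp
  map_mul' a b := by
    show ((a.1 * b.1 : ↥(Cfsg.qd p)).1 : Matrix (Fin 3) (Fin 3) (ZMod p)) 0 0 = _
    rw [qd_coe_mul]
    have hb : (b.1.1 : Matrix (Fin 3) (Fin 3) (ZMod p)) 1 0 = 0 := b.2
    simp [Matrix.mul_apply, Fin.sum_univ_three, hb, S3835.qd_row b.1.2]

theorem qdP_eq_ker : (qdP p).subgroupOf (qdB p) = (qdChi p).ker := by
  ext g
  rw [Subgroup.mem_subgroupOf, MonoidHom.mem_ker]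
  constructor
  · rintro ⟨k, x, y, e⟩
    show (g.1.1 : Matrix (Fin 3) (Fin 3) (ZMod p)) 0 0 = 1
    rw [e]
    simp [qdU]
  · intro h
    have h0 : (g.1.1 : Matrix (Fin 3) (Fin 3) (ZMod p)) 0 0 = 1 := h
    have h1 : (g.1.1 : Matrix (Fin 3) (Fin 3) (ZMod p)) 1 0 = 0 := g.2
    have r := S3835.qd_row g.1.2
    have hd := g.1.1.2
    rw [Matrix.det_fin_three] at hd
    simp [h0, h1, r] at hd
    refine ⟨(g.1.1 : Matrix (Fin 3) (Fin 3) (ZMod p)) 0 1, (g.1.1 : Matrix (Fin 3) (Fin 3) (ZMod p)) 0 2,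
      (g.1.1 : Matrix (Fin 3) (Fin 3) (ZMod p)) 1 2, Subtype.ext (Subtype.ext ?_)⟩
    ext i j
    fin_cases i <;> fin_cases j <;> simp [qdU, h0, h1, r, hd]

theorem normalizer_qdP : normalizer (qdP p : Set ↥(Cfsg.qd p)) = qdB p := by
  refine le_antisymm (fun g hg => ?_) ((Subgroup.normal_subgroupOf_iff_le_normalizer qdP_le_qdB).mp
    (by rw [qdP_eq_ker]; infer_instance))
  obtain ⟨k, x, y, e⟩ := (mem_normalizer_iff.mp hg (qdU 1 0 0)).mp (qdU_mem 1 0 0)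
  rw [mul_inv_eq_iff_eq_mul] at e
  have h := congrArg (fun z : ↥(Cfsg.qd p) => (z.1 : Matrix (Fin 3) (Fin 3) (ZMod p)) 1 1) e
  simp only [qd_coe_mul] at h
  simp [qdU, Matrix.mul_apply, Fin.sum_univ_three, S3835.qd_row g.2] at h
  show (g.1 : Matrix (Fin 3) (Fin 3) (ZMod p)) 1 0 = 0
  linear_combination h

/-- The Sylow subgroup of the triangular matrices. -/
theorem eq_qdP {T : Subgroup ↥(Cfsg.qd p)} (hT : IsPGroup p T) (hle : qdP p ≤ T) : T = qdP p := by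
  by_contra hne
  haveI : Finite ↥T := inferInstance
  haveI := hT.isNilpotent
  have hproper : (qdP p).subgroupOf T < ⊤ := lt_top_iff_ne_top.mpr fun h =>
    hne (le_antisymm (Subgroup.subgroupOf_eq_top.mp h) hle)
  obtain ⟨z, hzn, hz⟩ := SetLike.exists_of_lt (Group.normalizerCondition_of_isNilpotent _ hproper)
  have hzN : (z : ↥(Cfsg.qd p)) ∈ normalizer (qdP p : Set ↥(Cfsg.qd p)) := by
    refine mem_normalizer_fintype fun y hy => ?_
    exact Subgroup.mem_subgroupOf.mp ((mem_normalizer_iff.mp hzn ⟨y, hle hy⟩).mp hy)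
  rw [normalizer_qdP] at hzN
  obtain ⟨j, hj⟩ := hT z
  have hpow : qdChi p ⟨z, hzN⟩ ^ p ^ j = 1 := by
    rw [← map_pow]
    have : (⟨z, hzN⟩ : qdB p) ^ p ^ j = 1 := Subtype.ext (by
      rw [SubmonoidClass.coe_pow]; exact congrArg Subtype.val hj)
    rw [this, map_one]
  rw [ZMod.pow_card_pow] at hpow
  have h2 : (⟨z, hzN⟩ : qdB p) ∈ (qdP p).subgroupOf (qdB p) := by rw [qdP_eq_ker]; exact hpow
  exact hz h2

theorem coe_sylow_qdP : ∃ S : Sylow p ↥(Cfsg.qd p), (S : Subgroup ↥(Cfsg.qd p)) = qdP p := by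
  obtain ⟨S, hS⟩ := (isPGroup_qdP (p := p)).exists_le_sylow
  exact ⟨S, eq_qdP S.2 hS⟩

/-- The automorphism interchanging the two abelian maximal subgroups. -/
theorem exists_swap : ∃ σ : qdP p ≃* qdP p, ∀ k x y : ZMod p,
    (σ ⟨qdU k x y, qdU_mem k x y⟩ : ↥(Cfsg.qd p)) = qdU y (k * y - x) k := by
  classical
  have hu : ∀ g : qdP p, ∃ t : ZMod p × ZMod p × ZMod p, (g : ↥(Cfsg.qd p)) = qdU t.1 t.2.1 t.2.2 :=
    fun ⟨g, k, x, y, e⟩ => ⟨⟨k, x, y⟩, e⟩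
  choose c hc using hu
  let f : qdP p → qdP p := fun g =>
    ⟨qdU (c g).2.2 ((c g).1 * (c g).2.2 - (c g).2.1) (c g).1, qdU_mem _ _ _⟩
  have hf : ∀ (g : qdP p) (k x y : ZMod p), (g : ↥(Cfsg.qd p)) = qdU k x y →
      (f g : ↥(Cfsg.qd p)) = qdU y (k * y - x) k := by
    intro g k x y e
    obtain ⟨h1, h2, h3⟩ := qdU_inj ((hc g).symm.trans e)
    show qdU _ _ _ = _
    rw [h1, h2, h3]
  have hff : ∀ g, f (f g) = g := fun g => Subtype.ext (by
    rw [hf (f g) _ _ _ rfl, hc g]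
    congr 1
    ring)
  refine ⟨⟨⟨f, f, hff, hff⟩, fun g h => Subtype.ext ?_⟩, fun k x y => hf _ k x y rfl⟩
  show (f (g * h) : ↥(Cfsg.qd p)) = (f g : ↥(Cfsg.qd p)) * (f h : ↥(Cfsg.qd p))
  rw [hf (g * h) _ _ _ (by rw [Subgroup.coe_mul, hc g, hc h, qdU_mul])]
  show _ = qdU _ _ _ * qdU _ _ _
  rw [qdU_mul]
  congr 1
  ring

/-- A characteristic subgroup of the Sylow subgroup is not the group of translations. -/
theorem char_ne_qdV {C : Subgroup (qdP p)} (hC : C.Characteristic) : C.map (qdP p).subtype ≠ qdV p := by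
  intro h
  obtain ⟨σ, hσ⟩ := exists_swap (p := p)
  obtain ⟨⟨w, hw⟩, hwC, hwe⟩ := h.ge (qdU_mem_qdV.mpr rfl : qdU (0 : ZMod p) 0 1 ∈ qdV p)
  change w = qdU (0 : ZMod p) 0 1 at hwe
  subst hwe
  have h1 : σ ⟨_, hw⟩ ∈ C := (Subgroup.characteristic_iff_le_comap.mp hC σ) hwC
  have h2 : (σ ⟨_, hw⟩ : ↥(Cfsg.qd p)) ∈ qdV p := h ▸ ⟨_, h1, rfl⟩
  rw [hσ, qdU_mem_qdV] at h2
  exact one_ne_zero h2

/-- A nontrivial subgroup of the Sylow subgroup normal in it and different from the translations is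
normalized only by the triangular subgroup. -/
theorem normalizer_le_qdB {Z : Subgroup ↥(Cfsg.qd p)} (hZ : Z ≤ qdP p) (hZ1 : Z ≠ ⊥) (hZV : Z ≠ qdV p)
    (hn : qdP p ≤ normalizer (Z : Set ↥(Cfsg.qd p))) : normalizer (Z : Set ↥(Cfsg.qd p)) ≤ qdB p := by
  haveI hVn : (qdV p).Normal := qdFrame.normal
  obtain ⟨W, hWV, hW1, hWne, hWn⟩ : ∃ W, W ≤ qdV p ∧ W ≠ ⊥ ∧ ¬ qdV p ≤ W ∧
      ∀ x ∈ normalizer (Z : Set ↥(Cfsg.qd p)), ∀ w ∈ W, x * w * x⁻¹ ∈ W := by
    by_cases h : Z ≤ qdV p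
    · exact ⟨Z, h, hZ1, fun h' => hZV (le_antisymm h h'), fun x hx w hw => (mem_normalizer_iff.mp hx w).mp hw⟩
    refine ⟨qdV p ⊓ centralizer (Z : Set ↥(Cfsg.qd p)), inf_le_left, fun hb => ?_, fun hle => h fun z hz =>
      qdFrame.cent fun v hv => ((hle hv).2 z hz).symm, fun x hx w hw => ⟨hVn.conj_mem w hw.1 x, fun z hz => ?_⟩⟩
    · have hc : qdU (0 : ZMod p) 1 0 ∈ centralizer (Z : Set ↥(Cfsg.qd p)) := fun z hz => by
        obtain ⟨k, x, y, rfl⟩ := hZ hz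
        rw [qdU_mul, qdU_mul]
        congr 1 <;> ring
      have h1 : qdU (0 : ZMod p) 1 0 = qdU 0 0 0 := by
        rw [qdU_zero]; exact Subgroup.mem_bot.mp (hb ▸ ⟨qdU_mem_qdV.mpr rfl, hc⟩)
      exact one_ne_zero (qdU_inj h1).2.1
    · have h1 := hw.2 _ ((mem_normalizer_iff''.mp hx z).mp hz)
      calc z * (x * w * x⁻¹) = x * (x⁻¹ * z * x * w) * x⁻¹ := by group
        _ = x * (w * (x⁻¹ * z * x)) * x⁻¹ := by rw [h1]
        _ = x * w * x⁻¹ * z := by group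
  -- `W` is the fixed line
  have hline : ∀ w ∈ W, ∃ x, w = qdU 0 x 0 := by
    intro w hw
    obtain ⟨k, x, y, rfl⟩ := qdV_le_qdP (hWV hw)
    obtain rfl := qdU_mem_qdV.mp (hWV hw)
    by_cases hy : y = 0
    · exact ⟨x, by rw [hy]⟩
    exfalso
    apply hWne
    have hconj : qdU (0 : ZMod p) (x + y) y ∈ W := by
      have h1 := hWn _ (hn (qdU_mem 1 0 0)) _ hw
      rwa [show qdU (1 : ZMod p) 0 0 * qdU 0 x y * (qdU 1 0 0)⁻¹ = qdU 0 (x + y) y by
        rw [mul_inv_eq_iff_eq_mul, qdU_mul, qdU_mul]; congr 1 <;> ring] at h1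
    have hy0 : qdU (0 : ZMod p) y 0 ∈ W := by
      have := mul_mem hconj (inv_mem hw)
      rwa [show qdU (0 : ZMod p) (x + y) y * (qdU 0 x y)⁻¹ = qdU 0 y 0 by
        rw [mul_inv_eq_iff_eq_mul, qdU_mul]; congr 1 <;> ring] at this
    haveI : NeZero p := ⟨(Fact.out : p.Prime).ne_zero⟩
    have hmul : ∀ (n : ℕ) (a b : ZMod p), qdU (0 : ZMod p) a b ^ n = qdU 0 ((n : ZMod p) * a) ((n : ZMod p) * b) := by
      intro n a b
      induction n with
      | zero => simp [qdU_zero]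
      | succ n ih => rw [pow_succ, ih, qdU_mul]; push_cast; congr 1 <;> ring
    intro v hv
    obtain ⟨a, b, rfl⟩ := eq_qdTr hv
    rw [qdTr_eq]
    have h1 := pow_mem hw (b * y⁻¹).val
    have h2 := pow_mem hy0 ((a - b * y⁻¹ * x) * y⁻¹).val
    rw [hmul, ZMod.natCast_zmod_val] at h1 h2
    have h3 := mul_mem h1 h2
    rw [qdU_mul] at h3
    convert h3 using 2 <;> field_simp <;> ring
  intro g hg
  obtain ⟨w, hw, hw1⟩ := (Subgroup.bot_or_exists_ne_one W).resolve_left hW1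
  obtain ⟨x, rfl⟩ := hline w hw
  have hx : x ≠ 0 := fun h => hw1 (by rw [h, qdU_zero])
  obtain ⟨x', hx'⟩ := hline _ (hWn g hg _ hw)
  rw [mul_inv_eq_iff_eq_mul] at hx'
  have h := congrArg (fun z : ↥(Cfsg.qd p) => (z.1 : Matrix (Fin 3) (Fin 3) (ZMod p)) 1 2) hx'
  simp only [qd_coe_mul] at h
  simp [qdU, Matrix.mul_apply, Fin.sum_univ_three, S3835.qd_row g.2, hx] at h
  exact h

/-- In `Qd(p)` no functor controls the fusion of the translations. -/
theorem qd_not_controls_functor.{u} {X : Type u} [Group X] [Finite X] (e : X ≃* ↥(Cfsg.qd p))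
    (W : ∀ (Q : Type u) [Group Q], Subgroup Q) (hW : IsCharPFunctor.{u} p W)
    (h : ∀ T : Sylow p X, ControlsStrongFusion p (inducedFunctor W (T : Subgroup X))) : False := by
  obtain ⟨hW1, hW2⟩ := hW
  have hPp : IsPGroup p ↥((qdP p).map e.symm.toMonoidHom) := isPGroup_qdP.map _
  obtain ⟨S, hS⟩ := hPp.exists_le_sylow
  have hSP : (S : Subgroup X).map e.toMonoidHom = qdP p := by
    refine eq_qdP (S.2.map _) fun g hg => ⟨e.symm g, hS ⟨g, hg, rfl⟩, e.apply_symm_apply g⟩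
  let ε : (S : Subgroup X) ≃* qdP p :=
    ((S : Subgroup X).equivMapOfInjective e.toMonoidHom e.injective).trans (MulEquiv.subgroupCongr hSP)
  set C := (W ↥(S : Subgroup X)).map ε.toMonoidHom with hC
  haveI hSchar : (W ↥(S : Subgroup X)).Characteristic :=
    Subgroup.characteristic_iff_map_eq.mpr fun φ => hW2 _ _ S.2 φ
  have hCchar : C.Characteristic := by
    refine Subgroup.characteristic_iff_map_eq.mpr fun φ => ?_
    have h1 := Subgroup.characteristic_iff_map_eq.mp hSchar ((ε.trans φ).trans ε.symm)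
    conv_rhs => rw [hC, ← h1, Subgroup.map_map]
    rw [hC, Subgroup.map_map]
    congr 1
    ext x
    simp
  have hne : W ↥(S : Subgroup X) ≠ ⊥ := by
    haveI : Nontrivial ↥(S : Subgroup X) := ε.toEquiv.nontrivial_congr.mpr
      ⟨⟨⟨qdU 1 0 0, qdU_mem _ _ _⟩, 1, fun h => one_ne_zero
        (qdU_inj ((congrArg Subtype.val h).trans qdU_zero.symm)).1⟩⟩
    exact hW1 _ S.2 inferInstance
  set Z := C.map (qdP p).subtype with hZdef
  have hZ : Z = (inducedFunctor W (S : Subgroup X)).map e.toMonoidHom := by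
    rw [hZdef, hC, inducedFunctor, Subgroup.map_map, Subgroup.map_map]
    congr 1
  have hZ1 : Z ≠ ⊥ := fun hb => hne ((Subgroup.map_eq_bot_iff_of_injective _ ε.injective).mp
    ((Subgroup.map_eq_bot_iff_of_injective _ (qdP p).subtype_injective).mp hb))
  have hZn : qdP p ≤ normalizer (Z : Set ↥(Cfsg.qd p)) := by
    haveI := hCchar
    intro u hu
    refine mem_normalizer_fintype ?_
    rintro _ ⟨z, hz, rfl⟩
    have hn : C.Normal := Subgroup.normal_of_characteristic C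
    have hu' : (⟨u, hu⟩ : qdP p) * z * (⟨u, hu⟩ : qdP p)⁻¹ ∈ C := hn.conj_mem z hz _
    exact Subgroup.mem_map.mpr ⟨_, hu', by simp⟩
  have hB := normalizer_le_qdB (Subgroup.map_subtype_le C) hZ1 (char_ne_qdV hCchar) hZn
  obtain ⟨U, -, hU⟩ := h S
  have hVU : (qdV p).map e.symm.toMonoidHom ≤ (U : Subgroup X) := by
    haveI : ((qdV p).map e.symm.toMonoidHom).Normal :=
      Subgroup.Normal.map qdFrame.normal _ e.symm.surjective
    exact (Core.le_pCore inferInstance (qdFrame.pgroup.map _)).trans (Core.pCore_le_sylow U)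
  obtain ⟨g, hg⟩ := exists_conj_qdV (qdTr_mem (1 : ZMod p) 0) (qdTr_mem (0 : ZMod p) 1)
    (fun he => one_ne_zero (qdU_inj (he.trans qdU_zero.symm)).2.1)
    (fun he => one_ne_zero (qdU_inj (he.trans qdU_zero.symm)).2.2)
  obtain ⟨x, hx, hxe⟩ := (hU {e.symm (qdTr 1 0)}
    (Set.singleton_subset_iff.mpr (hVU ⟨_, qdTr_mem 1 0, rfl⟩))).2 (e.symm g) (by
    rintro _ ⟨_, rfl, rfl⟩
    show e.symm g * e.symm (qdTr 1 0) * (e.symm g)⁻¹ ∈ (U : Subgroup X)
    rw [← map_inv, ← map_mul, ← map_mul, hg]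
    exact hVU ⟨_, qdTr_mem 0 1, rfl⟩)
  have hex : e x ∈ qdB p := hB (by
    rw [← hZdef, hZ]
    exact Subgroup.le_normalizer_map e.toMonoidHom ⟨x, hx, rfl⟩)
  have h1 := congrArg e (hxe _ rfl)
  simp only [map_mul, map_inv, MulEquiv.apply_symm_apply] at h1
  rw [hg, eq_mul_inv_iff_mul_eq] at h1
  have h2 := congrArg (fun z : ↥(Cfsg.qd p) => (z.1 : Matrix (Fin 3) (Fin 3) (ZMod p)) 1 2) h1
  simp only [qd_coe_mul] at h2
  have hex' : ((e x).1 : Matrix (Fin 3) (Fin 3) (ZMod p)) 1 0 = 0 := hex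
  simp [qdTr, Matrix.mul_apply, Fin.sum_univ_three, S3835.qd_row (e x).2, hex'] at h2

end Cfsg.Agent.FusionZJ
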