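import Cfsg.Agent.OddLocal.RankTwo.Omega
import Cfsg.Agent.Fusion.HypFocal
import Cfsg.Agent.Fusion.NormalMore
import Cfsg.Agent.Fusion.Series
import Cfsg.Agent.Fusion.Local
import Cfsg.Agent.Core.ThompsonComplement

/-!
Control of a saturated system by the elements of order `p` or four of the hyperfocal subgroup.
-/

set_option autoImplicit false
set_option linter.style.haveILetI false

namespace Cfsg.Agent.FusionZJ

open Cfsg Cfsg.FusionSystem Cfsg.Agent Cfsg.Agent.Fusion Cfsg.Agent.OddLocal.RankTwo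
open scoped commutatorElement

universe u

variable {p : ℕ}

/-- `x` has order dividing `p`, or four when `p = 2`. -/
def Small {G : Type*} [Group G] (p : ℕ) (x : G) : Prop := x ^ p = 1 ∨ (p = 2 ∧ x ^ 4 = 1)

/-- A characteristic subgroup of small exponent, faithful for `p'`-automorphisms. -/
theorem exists_faithful_small {G : Type*} [Group G] [Finite G] [hp : Fact p.Prime]
    (hG : IsPGroup p G) :
    ∃ C : Subgroup G, C.Characteristic ∧ (∀ x ∈ C, Small p x) ∧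
      ∀ a : MulAut G, (orderOf a).Coprime p → (∀ x ∈ C, a x = x) → a = 1 := by
  obtain ⟨q, hpq, hchoose, hsmall⟩ : ∃ q, p ∣ q ∧ p ∣ q.choose 2 ∧
      ∀ x : G, x ^ q = 1 → Small p x := by
    by_cases h2 : p = 2
    · exact ⟨4, by rw [h2]; decide, by rw [h2]; decide, fun x hx => Or.inr ⟨h2, hx⟩⟩
    · exact ⟨p, dvd_rfl, hp.out.dvd_choose_self (by norm_num)
        (lt_of_le_of_ne hp.out.two_le (Ne.symm h2)), fun x hx => Or.inl hx⟩
  obtain ⟨H, A, hHchar, hAH, hHA, hCH, hpow, hcomm⟩ := exists_critical hG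
  haveI := hHchar
  have hAcomm : ∀ u ∈ A, ∀ v ∈ H, u * v = v * u := fun u hu v hv =>
    Subgroup.mem_centralizer_iff.mp (hHA hv) u hu
  have hcH : commutator H ≤ Subgroup.center H := by
    rw [commutator_def, Subgroup.commutator_le]
    intro u _ v _
    rw [Subgroup.mem_center_iff]
    intro w
    exact Subtype.ext (hAcomm _ (hcomm u u.2 v) w w.2).symm
  have hcp : ∀ u v : H, ⁅u, v⁆ ^ p = 1 := fun u v => FGS3.commutatorElement_pow_eq_one hcH u v p
    (Subgroup.mem_center_iff.mpr fun w => Subtype.ext (hAcomm _ (hpow u u.2) w w.2).symm)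
  have hmul : ∀ u ∈ H, ∀ v ∈ H, (u * v) ^ q = u ^ q * v ^ q := fun u hu v hv => by
    have h := FGS3.mul_pow_of_center hcH (⟨u, hu⟩ : H) ⟨v, hv⟩ q
    obtain ⟨k, hk⟩ := hchoose
    rw [hk, pow_mul _ p, hcp, one_pow, mul_one] at h
    exact congrArg Subtype.val h
  let C : Subgroup G :=
    { carrier := {x | x ∈ H ∧ x ^ q = 1}
      one_mem' := ⟨one_mem _, one_pow _⟩
      mul_mem' := fun {a b} ha hb =>
        ⟨mul_mem ha.1 hb.1, by rw [hmul a ha.1 b hb.1, ha.2, hb.2, one_mul]⟩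
      inv_mem' := fun {a} ha => ⟨inv_mem ha.1, by rw [inv_pow, ha.2, inv_one]⟩ }
  refine ⟨C, ?_, fun x hx => hsmall x hx.2, fun a hcop hfix => ?_⟩
  · refine Subgroup.characteristic_iff_le_comap.mpr fun e x hx => ?_
    exact ⟨Subgroup.characteristic_iff_le_comap.mp hHchar e hx.1, by
      show (e x) ^ q = 1; rw [← map_pow, hx.2, map_one]⟩
  have haH : ∀ x ∈ H, a x ∈ H := fun x hx => Subgroup.characteristic_iff_le_comap.mp hHchar a hx
  have hH : ∀ n : ℕ, ∀ x ∈ H, x ^ p ^ n = 1 → a x = x := by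
    intro n
    induction n with
    | zero => intro x _ hx; rw [pow_zero, pow_one] at hx; rw [hx, map_one]
    | succ n ih =>
      intro x hx hxn
      refine fix_of_shift hG a hcop (hfix _ ⟨mul_mem (inv_mem hx) (haH x hx), ?_⟩)
      obtain ⟨k, hk⟩ := hpq
      have hxp : a (x ^ p) = x ^ p := ih _ (pow_mem hx p) (by rw [← pow_mul, ← pow_succ']; exact hxn)
      have hxq : a (x ^ q) = x ^ q := by rw [hk, pow_mul, map_pow, hxp]
      rw [hmul _ (inv_mem hx) _ (haH x hx), ← map_pow, hxq, inv_pow, inv_mul_cancel]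
  have hfixH : ∀ x ∈ H, a x = x := fun x hx => (hG x).elim fun n hn => hH n x hx hn
  apply MulEquiv.ext
  intro x
  refine fix_of_shift hG a hcop (hfixH _ (hCH (Subgroup.mem_centralizer_iff.mpr fun y hy => ?_)))
  have h1 : x * y * x⁻¹ ∈ H := (inferInstance : H.Normal).conj_mem y hy x
  have h2 := hfixH _ h1
  rw [map_mul, map_mul, map_inv, hfixH y hy] at h2
  calc y * (x⁻¹ * a x) = x⁻¹ * (x * y * x⁻¹) * a x := by group
    _ = x⁻¹ * (a x * y * (a x)⁻¹) * a x := by rw [h2]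
    _ = x⁻¹ * a x * y := by group

variable {Ω : Type u} [Group Ω] {S : Subgroup Ω} [Finite S] {F : FusionSystem S} [Fact p.Prime]

/-- A subgroup of small exponent of `Q ∩ hyp(F)`, faithful for the `p'`-automorphisms of the
system. -/
theorem exists_small_subgroup (hS : IsPGroup p S) (hF : F.IsSaturated p) {Q : Subgroup Ω}
    (hQ : Q ≤ S) :
    ∃ C : Subgroup Ω, C ≤ Q ⊓ F.hyperfocalSubgroup p ∧ (∀ x ∈ C, Small p x) ∧
      (∀ α : F.autGroup Q, ∀ x : Q, (x : Ω) ∈ C → (((α : MulAut Q) x : Q) : Ω) ∈ C) ∧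
      ∀ α : F.autGroup Q, (orderOf α).Coprime p →
        (∀ x : Q, (x : Ω) ∈ C → (α : MulAut Q) x = x) → α = 1 := by
  haveI := finite_of_le hQ
  have hQp : IsPGroup p Q := hS.to_le hQ
  set Hq := (F.hyperfocalSubgroup p).subgroupOf Q with hHq
  have hHinv : ∀ α : F.autGroup Q, ∀ x ∈ Hq, (α : MulAut Q) x ∈ Hq := by
    intro α x hx
    obtain ⟨f, hf, ef⟩ := (mem_autGroup_iff hQ).mp α.2
    rw [Subgroup.mem_subgroupOf, ← ef x]
    exact stronglyClosed_mem (hyperfocal_stronglyClosed hS hF) hf.mor x.2 hx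
  have hmap : ∀ α : F.autGroup Q, Hq.map ((α : MulAut Q) : Q ≃* Q).toMonoidHom = Hq := fun α =>
    le_antisymm (Subgroup.map_le_iff_le_comap.mpr fun x hx => hHinv α x hx) fun x hx =>
      ⟨((α⁻¹ : F.autGroup Q) : MulAut Q) x, hHinv α⁻¹ x hx, MulAut.apply_inv_self _ _ _⟩
  let r : F.autGroup Q →* MulAut Hq :=
    MonoidHom.mk' (fun α => ((α : MulAut Q).subgroupMap Hq).trans (MulEquiv.subgroupCongr (hmap α)))
      fun _ _ => MulEquiv.ext fun _ => Subtype.ext rfl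
  have hrv : ∀ (α : F.autGroup Q) (x : Hq), ((r α x : Hq) : Q) = (α : MulAut Q) x := fun _ _ => rfl
  obtain ⟨C₀, hC₀, hsmall, hfaith⟩ := exists_faithful_small (hQp.to_subgroup Hq)
  refine ⟨(C₀.map Hq.subtype).map Q.subtype, ?_, ?_, fun α x hx => ?_, fun α hα hfix => ?_⟩
  · rintro _ ⟨_, ⟨y, hy, rfl⟩, rfl⟩
    exact ⟨(y : Q).2, y.2⟩
  · rintro _ ⟨_, ⟨y, hy, rfl⟩, rfl⟩
    rcases hsmall y hy with h | ⟨h2, h⟩
    · exact Or.inl (congrArg (fun z : Hq => ((z : Q) : Ω)) h)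
    · exact Or.inr ⟨h2, congrArg (fun z : Hq => ((z : Q) : Ω)) h⟩
  · obtain ⟨_, ⟨y, hy, rfl⟩, hyx⟩ := hx
    have hx' : x = (y : Q) := Subtype.ext hyx.symm
    exact ⟨_, ⟨r α y, Subgroup.characteristic_iff_le_comap.mp hC₀ (r α) hy, rfl⟩,
      by rw [hx']; rfl⟩
  · have h1 : r α = 1 := hfaith _ (hα.coprime_dvd_left (orderOf_map_dvd r α)) fun y hy =>
      Subtype.ext (hfix y ⟨_, ⟨y, hy, rfl⟩, rfl⟩)
    refine Subtype.ext (MulEquiv.ext fun x => ?_)
    refine fix_of_shift hQp _ (by rwa [Subgroup.orderOf_coe]) ?_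
    have hd : x⁻¹ * (α : MulAut Q) x ∈ Hq :=
      Subgroup.subset_closure ⟨Q, α, x, hQ, Subgroup.subset_closure hα, rfl⟩
    have h2 := hrv α ⟨_, hd⟩
    rw [h1] at h2
    exact h2.symm

/-- The terms of the upper central series of `S`. -/
def zLevel (S : Subgroup Ω) (i : ℕ) : Subgroup Ω := (Subgroup.upperCentralSeries S i).map S.subtype

omit [Finite S] [Fact p.Prime] in
theorem zLevel_iso {g : Ω → Ω} (hg : Iso F g S S) {i : ℕ} {x : Ω} (hx : x ∈ zLevel S i) :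
    g x ∈ zLevel S i := by
  obtain ⟨y, hy, rfl⟩ := hx
  exact ⟨hg.equiv y, Subgroup.characteristic_iff_le_comap.mp inferInstance hg.equiv hy, rfl⟩

/-- A group of automorphisms moving the small subgroup only down the central series is a
`p`-group. -/
theorem isPGroup_of_series (hS : IsPGroup p S) {Q C : Subgroup Ω} (hQ : Q ≤ S) (hCQ : C ≤ Q)
    (hCinv : ∀ α : F.autGroup Q, ∀ x : Q, (x : Ω) ∈ C → (((α : MulAut Q) x : Q) : Ω) ∈ C)
    (hfaith : ∀ α : F.autGroup Q, (orderOf α).Coprime p →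
      (∀ x : Q, (x : Ω) ∈ C → (α : MulAut Q) x = x) → α = 1)
    (K : Subgroup (F.autGroup Q))
    (hK : ∀ a ∈ K, ∀ i, ∀ x : Q, (x : Ω) ∈ C ⊓ zLevel S (i + 1) →
      (x : Ω)⁻¹ * (((a : MulAut Q) x : Q) : Ω) ∈ zLevel S i) :
    IsPGroup p K := by
  haveI := finite_of_le hQ
  haveI := finite_mulAut (G := Q)
  refine Core.ThompsonComplement.isPGroup_of_forall_coprime fun a ha hcop => hfaith a hcop ?_
  have key : ∀ i, ∀ x : Q, (x : Ω) ∈ C ⊓ zLevel S i → (a : MulAut Q) x = x := by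
    intro i
    induction i with
    | zero =>
      intro x hx
      obtain ⟨y, hy, hyx⟩ := hx.2
      rw [SetLike.mem_coe, Subgroup.upperCentralSeries_zero, Subgroup.mem_bot] at hy
      have hx1 : x = 1 := Subtype.ext (by rw [← hyx, hy]; rfl)
      rw [hx1, map_one]
    | succ i ih =>
      intro x hx
      refine fix_of_shift (hS.to_le hQ) _ (by rwa [Subgroup.orderOf_coe]) (ih _ ⟨?_, hK a ha i x hx⟩)
      exact C.mul_mem (C.inv_mem hx.1) (hCinv a x hx.1)
  haveI := hS.isNilpotent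
  obtain ⟨c, hc⟩ := (inferInstance : Group.IsNilpotent S).nilpotent
  intro x hx
  exact key c x ⟨hx, ⟨⟨x, hQ x.2⟩, by rw [hc]; trivial, rfl⟩⟩

/-- If the automorphisms respect the central series on a small faithful subgroup, those moving it
down are a normal `p`-subgroup containing the automizer of `S`. -/
theorem exists_normal_pSubgroup (hS : IsPGroup p S) {Q C : Subgroup Ω} (hQ : Q ≤ S) (hCQ : C ≤ Q)
    (hCinv : ∀ α : F.autGroup Q, ∀ x : Q, (x : Ω) ∈ C → (((α : MulAut Q) x : Q) : Ω) ∈ C)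
    (hfaith : ∀ α : F.autGroup Q, (orderOf α).Coprime p →
      (∀ x : Q, (x : Ω) ∈ C → (α : MulAut Q) x = x) → α = 1)
    (hlev : ∀ α : F.autGroup Q, ∀ i, ∀ x : Q, (x : Ω) ∈ C → (x : Ω) ∈ zLevel S i →
      (((α : MulAut Q) x : Q) : Ω) ∈ zLevel S i) :
    ∃ K : Subgroup (F.autGroup Q), K.Normal ∧ IsPGroup p K ∧
      (autInducedBy S Q).subgroupOf (F.autGroup Q) ≤ K := by
  let K : Subgroup (F.autGroup Q) :=
    { carrier := {a | ∀ i, ∀ x : Q, (x : Ω) ∈ C ⊓ zLevel S (i + 1) →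
        (x : Ω)⁻¹ * (((a : MulAut Q) x : Q) : Ω) ∈ zLevel S i}
      one_mem' := fun i x _ => by simp
      mul_mem' := by
        intro a b ha hb i x hx
        have h1 := hb i x hx
        have h2 := ha i ((b : MulAut Q) x) ⟨hCinv b x hx.1, hlev b _ x hx.1 hx.2⟩
        have h := (zLevel S i).mul_mem h1 h2
        rwa [mul_assoc, mul_inv_cancel_left] at h
      inv_mem' := by
        intro a ha i x hx
        have h := (zLevel S i).inv_mem
          (ha i (((a⁻¹ : F.autGroup Q) : MulAut Q) x) ⟨hCinv a⁻¹ x hx.1, hlev a⁻¹ _ x hx.1 hx.2⟩)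
        rw [Subgroup.coe_inv, MulAut.apply_inv_self, mul_inv_rev, inv_inv] at h
        exact h }
  refine ⟨K, ⟨fun a ha g i x hx => ?_⟩,
    isPGroup_of_series hS hQ hCQ hCinv hfaith K fun a ha => ha, fun a ha i x hx => ?_⟩
  · set y := ((g⁻¹ : F.autGroup Q) : MulAut Q) x with hy
    have hyC : (y : Ω) ∈ C := hCinv g⁻¹ x hx.1
    have h1 := ha i y ⟨hyC, hlev g⁻¹ _ x hx.1 hx.2⟩
    have hd : ((y⁻¹ * (a : MulAut Q) y : Q) : Ω) ∈ C := C.mul_mem (C.inv_mem hyC) (hCinv a y hyC)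
    have h2 := hlev g i (y⁻¹ * (a : MulAut Q) y) hd h1
    rw [map_mul, map_inv, hy, Subgroup.coe_inv, MulAut.apply_inv_self] at h2
    exact h2
  · obtain ⟨s, hs, -, es⟩ := mem_autInducedBy.mp (show (a : MulAut Q) ∈ autInducedBy S Q from ha)
    rw [es]
    have h := upperSeries_comm S i ((zLevel S (i + 1)).inv_mem hx.2) hs
    rw [commutatorElement_def, inv_inv] at h
    show (x : Ω)⁻¹ * (s * x * s⁻¹) ∈ zLevel S i
    simpa [zLevel, mul_assoc] using h

/-- The map of cyclic subgroups given by an automorphism at a small element. -/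
theorem exists_small_hom {Q C : Subgroup Ω} (hQ : Q ≤ S) (hC : C ≤ F.hyperfocalSubgroup p)
    (hsmall : ∀ x ∈ C, Small p x)
    (hCinv : ∀ α : F.autGroup Q, ∀ x : Q, (x : Ω) ∈ C → (((α : MulAut Q) x : Q) : Ω) ∈ C)
    (α : F.autGroup Q) (x : Q) (hx : (x : Ω) ∈ C) (hx1 : (x : Ω) ≠ 1) :
    ∃ (A B : Subgroup Ω) (φ : A →* Ω) (hxA : (x : Ω) ∈ A), A ≤ F.hyperfocalSubgroup p ∧
      B ≤ F.hyperfocalSubgroup p ∧ IsCyclic ↥A ∧ (Nat.card ↥A = p ∨ Nat.card ↥A = 4) ∧ IsCyclic ↥B ∧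
      (Nat.card ↥B = p ∨ Nat.card ↥B = 4) ∧ φ ∈ F.homSet A B ∧
      φ ⟨x, hxA⟩ = (((α : MulAut Q) x : Q) : Ω) := by
  obtain ⟨f, hf, ef⟩ := (mem_autGroup_iff hQ).mp α.2
  set A := Subgroup.zpowers (x : Ω) with hA
  set B := Subgroup.zpowers (((α : MulAut Q) x : Q) : Ω) with hB
  have hord : orderOf (x : Ω) = p ∨ orderOf (x : Ω) = 4 := by
    rcases hsmall _ hx with h1 | ⟨h2, h4⟩
    · exact Or.inl (orderOf_eq_prime h1 hx1)
    · obtain ⟨k, hk, hke⟩ := (Nat.dvd_prime_pow Nat.prime_two).mp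
        (show orderOf (x : Ω) ∣ 2 ^ 2 from orderOf_dvd_of_pow_eq_one h4)
      interval_cases k
      · exact absurd (orderOf_eq_one_iff.mp hke) hx1
      · exact Or.inl (by rw [hke, h2]; norm_num)
      · exact Or.inr (by rw [hke]; norm_num)
  have hordB : orderOf (((α : MulAut Q) x : Q) : Ω) = orderOf (x : Ω) := by
    rw [Subgroup.orderOf_coe, Subgroup.orderOf_coe, MulEquiv.orderOf_eq]
  have hAQ : A ≤ Q := Subgroup.zpowers_le.mpr x.2
  have hm := hf.mor.restrict hAQ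
  have hcomap : A ≤ ((B.comap Q.subtype).comap ((α : MulAut Q) : Q ≃* Q).toMonoidHom).map Q.subtype :=
    Subgroup.zpowers_le.mpr ⟨x, Subgroup.mem_zpowers _, rfl⟩
  have hmem : hm.hom ∈ F.homSet A B := by
    refine ⟨hm.hom_mem, fun y => ?_⟩
    obtain ⟨z, hz, hze⟩ := hcomap y.2
    show f (y : Ω) ∈ B
    rw [show (y : Ω) = (z : Ω) from hze.symm, ef z]
    exact hz
  exact ⟨A, B, hm.hom, Subgroup.mem_zpowers _, Subgroup.zpowers_le.mpr (hC hx),
    Subgroup.zpowers_le.mpr (hC (hCinv α x hx)), inferInstance,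
    by rw [hA, Nat.card_zpowers]; exact hord, inferInstance,
    by rw [hB, Nat.card_zpowers, hordB]; exact hord, hmem, ef x⟩

/-- Small elements of the hyperfocal subgroup moved by the system are moved by `S`-stable maps. -/
theorem exists_top_map {Q C : Subgroup Ω} (hQ : Q ≤ S) (hC : C ≤ F.hyperfocalSubgroup p)
    (hsmall : ∀ x ∈ C, Small p x)
    (hCinv : ∀ α : F.autGroup Q, ∀ x : Q, (x : Ω) ∈ C → (((α : MulAut Q) x : Q) : Ω) ∈ C)
    (h : ∀ A B : Subgroup Ω, A ≤ F.hyperfocalSubgroup p → B ≤ F.hyperfocalSubgroup p → IsCyclic ↥A →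
      (Nat.card ↥A = p ∨ Nat.card ↥A = 4) → IsCyclic ↥B → (Nat.card ↥B = p ∨ Nat.card ↥B = 4) →
        F.homSet A B ⊆ F.normalizerHom S A)
    (α : F.autGroup Q) (x : Q) (hx : (x : Ω) ∈ C) :
    ∃ g, Iso F g S S ∧ g x = (((α : MulAut Q) x : Q) : Ω) := by
  by_cases hx1 : (x : Ω) = 1
  · have h1 : x = 1 := Subtype.ext hx1
    refine ⟨cj 1, (Mor.conj le_rfl S.one_mem).iso_of_card
      (fun z hz => by rw [cj_one]; exact hz) le_rfl, ?_⟩
    rw [cj_one, h1, map_one]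
  obtain ⟨A, B, φ, hxA, hA, hB, hAc, hAo, hBc, hBo, hφ, hφx⟩ :=
    exists_small_hom hQ hC hsmall hCinv α x hx hx1
  obtain ⟨-, -, -, hst⟩ := h A B hA hB hAc hAo hBc hBo hφ
  obtain ⟨g, hg, eg, mg⟩ := (stabExt_iff (φ := φ)).mp hst
  refine ⟨g, (hg.restrict le_sup_right).iso_of_card (fun z hz => mg.le ⟨z, hz, rfl⟩) le_rfl, ?_⟩
  exact (eg ⟨x, hxA⟩).trans hφx

/-- If the small elements of the hyperfocal subgroup are controlled by `S`-stable maps, `S` is
normal: no subgroup is essential. -/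
theorem not_essential_of_small (hS : IsPGroup p S) (hF : F.IsSaturated p)
    (h : ∀ A B : Subgroup Ω, A ≤ F.hyperfocalSubgroup p → B ≤ F.hyperfocalSubgroup p → IsCyclic ↥A →
      (Nat.card ↥A = p ∨ Nat.card ↥A = 4) → IsCyclic ↥B → (Nat.card ↥B = p ∨ Nat.card ↥B = 4) →
        F.homSet A B ⊆ F.normalizerHom S A) :
    ∀ Q, ¬ F.IsEssential p Q := by
  intro Q hQ
  have hQS := hQ.1.1
  obtain ⟨C, hC, hsmall, hCinv, hfaith⟩ := exists_small_subgroup hS hF hQS
  obtain ⟨K, hKn, hKp, hle⟩ := exists_normal_pSubgroup hS hQS (hC.trans inf_le_left) hCinv hfaith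
    fun α i x hx hxi => by
      obtain ⟨g, hg, e⟩ := exists_top_map hQS (hC.trans inf_le_right) hsmall hCinv h α x hx
      rw [← e]
      exact zLevel_iso hg hxi
  exact not_essential_of_normal_pGroup hS hF hQ K hKn hKp hle

end Cfsg.Agent.FusionZJ
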