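import Cfsg.Agent.FusionZJ.Constrained
import Cfsg.Agent.FusionZJ.NilpotencyApps
import Cfsg.Agent.S0065

/-!
Sparse fusion systems are constrained.
-/

set_option autoImplicit false
set_option linter.style.haveILetI false
set_option linter.unusedSectionVars false

namespace Cfsg.Agent.FusionZJ

open Cfsg Cfsg.FusionSystem Cfsg.Agent Cfsg.Agent.Fusion
open scoped commutatorElement

universe u

variable {Ω : Type u} [Group Ω] {S : Subgroup Ω} {F : FusionSystem S} {p : ℕ}

/-- A sparse system is constrained, for odd primes or without symmetric sections of degree four. -/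
theorem constrained_of_sparse [Fact p.Prime] [Finite S] (hS : IsPGroup p S) (hF : F.IsSaturated p)
    (hgood : HasGood (OddOrS4Free p) F p ⊥)
    (hsp : ∀ E : FusionSystem S, E.IsSaturated p → E.IsSubsystemOf F →
      (∀ P, E.Hom P = F.Hom P) ∨ ∀ P, E.Hom P = (innerFusionSystem S).Hom P) :
    F.IsCentric F.core := by
  set Q := F.core with hQ
  have hQnorm : F.IsNormal Q := core_isNormal
  have hQsc := isNormal_stronglyClosed hQnorm
  have hQS : Q ≤ S := hQnorm.1
  haveI : (Q.subgroupOf S).Normal :=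
    Subgroup.normal_subgroupOf_of_le_normalizer (stronglyClosed_normalizer hQsc)
  refine ⟨hQS, fun R hR => ?_⟩
  obtain rfl : R = Q := by
    obtain ⟨f, hf⟩ := isConj_iff.mp hR
    haveI := finite_of_le hQS
    have hfQ : Iso F f Q Q := hf.mor.iso_of_card
      (fun x hx => stronglyClosed_mem hQsc hf.mor hx hx) le_rfl
    exact SetLike.coe_injective (hf.bij.image_eq.symm.trans hfQ.bij.image_eq)
  set C := centralizerIn S Q with hC
  have hCsc : F.StronglyClosed C := stronglyClosed_centralizerIn_of_normal hQnorm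
  by_contra hCQ
  obtain ⟨E, hE⟩ := exists_factorSystem_quotient F Q hQsc
  set θ := QuotientGroup.mk' (Q.subgroupOf S) with hθ
  have hk := hE.2.1
  have hS' : IsPGroup p ↥(⊤ : Subgroup (S ⧸ Q.subgroupOf S)) := (hS.to_quotient _).to_subgroup _
  haveI : Finite ↥(⊤ : Subgroup (S ⧸ Q.subgroupOf S)) := inferInstance
  have hEsat := factor_saturated hS hF hQsc hE
  have htop : (⊤ : Subgroup (S ⧸ Q.subgroupOf S)) ≠ ⊥ := fun h => hCQ fun x hx =>
    (extHom_eq_one hk (hCsc.1 hx)).mp (Subgroup.mem_bot.mp (h ▸ Subgroup.mem_top _))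
  by_cases hEbad : IsBad E p
  · -- the preimage of a witness is a normal subgroup
    obtain ⟨U', -, hU'n, hU'c, hU'p⟩ := exists_normal_witness oddOrS4Free_sub oddOrS4Free_quot
      (fun L _ _ T hC hG hL => thompson_hstep T hC hG hL) _ _ ⊤ hS' E hEsat rfl hEbad
      (hasGood_factor hS hF oddOrS4Free_quot hQnorm (fun R h1 h2 _ => hgood R h1 h2 bot_le) hE)
    set K := preimageAlong θ U' with hKdef
    have hKS : K ≤ S := preimageAlong_le θ
    have hQK : Q ≤ K := le_preimageAlong θ hk hQS U'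
    have himg : imageAlong θ K = U' := by
      ext y
      rw [mem_imageAlong (hP := hKS)]
      refine ⟨?_, fun hy => ?_⟩
      · rintro ⟨x, hx, rfl⟩
        exact (mem_preimage_iff.mp hx).2
      · obtain ⟨x, hx, e⟩ := exists_preimage hE hU'c.1 hy
        exact ⟨x, hx, e⟩
    have hSK : S ≤ Subgroup.normalizer (K : Set Ω) := fun s hs =>
      (normalizer_image hk hQS hQK hKS hs).mp (by rw [himg]; exact hU'n trivial)
    have hNK : normalizerIn S K = S := le_antisymm normalizerIn_le (le_inf le_rfl hSK)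
    have hKn : F.IsFullyNormalized K :=
      ⟨hKS, fun R _ => by rw [hNK]; exact Fusion.card_le_of_le normalizerIn_le⟩
    haveI : Finite ↥(normalizerIn S K) := finite_of_le normalizerIn_le
    obtain ⟨EK, hEK⟩ := exists_normalizerSystem F K hKS
    have key : ∀ T : Subgroup Ω, T = S → ∀ E' : FusionSystem T, E'.IsSaturated p →
        E'.IsSubsystemOf F → E'.IsNormal K → (∀ f, Iso F f K K → Iso E' f K K) →
        (∀ f, Iso F f K K → ∃ k, ∀ x ∈ K, f^[p ^ k] x = x) ∨ F.IsNormal K := by
      rintro T rfl E' hsat hsub hn hiso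
      rcases hsp E' hsat hsub with h | h
      · right
        obtain rfl := system_ext h
        exact hn
      · exact Or.inl fun f hf => period_of_inner hS h (hiso f hf)
    rcases key _ hNK EK (normalizerSystem_saturated hS hF hKn hEK)
      (fun P φ hφ => by rw [hEK P] at hφ; exact hφ.1) (normalizerSystem_isNormal hKS hEK)
      (fun f hf => ⟨mor_normalizerSystem hEK (hf.mor.restrict (sup_le le_rfl le_rfl)) (fun _ _ => rfl)
        hf.bij.image_eq (le_normalizerIn hKS) (fun x hx => le_normalizerIn hKS (hf.mapsTo hx)), hf.bij⟩)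
      with h | h
    · refine hU'p ((isPGroup_autGroup_iff hU'c.1).mpr fun g hg => ?_)
      obtain ⟨f, hf, ef⟩ := factor_lift_iso hQsc hE hg
      obtain ⟨k, hk'⟩ := h f hf
      refine ⟨k, fun y hy => ?_⟩
      obtain ⟨x, hx, rfl⟩ := exists_preimage hE hU'c.1 hy
      have h2 := (iterate_intertwine (f := f) (g := g) (θ := extHom θ) (A := (K : Set Ω))
        (fun y hy => hf.mapsTo hy) ef (p ^ k) x hx).2
      rw [h2, hk' x hx]
    · have hKQ : K ≤ Q := le_sSup h
      have hU'1 : U' = ⊥ := le_bot_iff.mp fun y hy => by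
        obtain ⟨x, hx, rfl⟩ := (mem_imageAlong (hP := hKS)).mp (himg.symm ▸ hy)
        exact Subgroup.mem_bot.mpr ((extHom_eq_one hk (hKS hx)).mpr (hKQ hx))
      refine htop (le_bot_iff.mp ?_)
      have h2 := hU'c.2 U' (isConj_refl hU'c.1)
      intro y _
      rw [← hU'1]
      refine h2 ⟨trivial, fun z hz => ?_⟩
      rw [hU'1] at hz
      rw [Subgroup.mem_bot.mp hz, one_mul, mul_one]
  -- the factor system is inner: a central part of the centralizer is normal
  have hEinn : E = innerFusionSystem ⊤ := eq_inner_of_isPGroup hS' hEsat fun P hP =>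
    by_contra fun h => hEbad ⟨P, hP, h⟩
  set Zb := Subgroup.center (S ⧸ Q.subgroupOf S) with hZb
  set V := C ⊓ preimageAlong θ Zb with hV
  have hVsc : F.StronglyClosed V := by
    refine stronglyClosed_of_mor (inf_le_left.trans hCsc.1) fun P f hf x hx hxV =>
      ⟨stronglyClosed_mem hCsc hf hx hxV.1, ?_⟩
    obtain ⟨g, hg, eg, -⟩ := ExtStab.of_isNormal hQnorm hf
    obtain ⟨h, hh, eh⟩ := factor_push hQsc hE hg le_sup_right
    have hx' : x ∈ P ⊔ Q := Subgroup.mem_sup_left hx
    have hxb : extHom θ x ∈ Zb := (mem_preimage_iff.mp hxV.2).2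
    have hxi : extHom θ x ∈ imageAlong θ (P ⊔ Q) :=
      (mem_imageAlong (hP := hg.dom_le)).mpr ⟨x, hx', rfl⟩
    subst hEinn
    obtain ⟨φ, ⟨-, s, -, e⟩, eφ⟩ := hh
    have h1 : h (extHom θ x) = extHom θ x := by
      rw [← eφ ⟨_, hxi⟩, e ⟨_, hxi⟩]
      show s * extHom θ x * s⁻¹ = extHom θ x
      rw [Subgroup.mem_center_iff.mp hxb s, mul_inv_cancel_right]
    rw [eh x hx', eg x hx] at h1
    exact mem_preimage_iff.mpr ⟨hf.map_mem hx, h1 ▸ hxb⟩
  have hVn : F.IsNormal V := by
    refine isNormal_of_chain hS hF hVsc 2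
      (fun i => if i = 0 then ⊥ else if i = 1 then C ⊓ Q else V) (by simp) (by simp) ?_ ?_ ?_
    · intro i hi
      interval_cases i
      · simp
      · simp only [show (1 : ℕ) ≠ 0 from one_ne_zero, if_true, if_false, show (1 + 1 : ℕ) ≠ 0 from by omega,
          show (1 + 1 : ℕ) ≠ 1 from by omega]
        exact le_inf inf_le_left (fun x hx => le_preimageAlong θ hk hQS Zb hx.2)
    · intro i hi
      interval_cases i
      · exact weaklyClosed_of_stronglyClosed (isNormal_stronglyClosed isNormal_bot)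
      · exact weaklyClosed_of_stronglyClosed (stronglyClosed_of_mor (inf_le_right.trans hQS)
          fun P f hf x hx hxV => ⟨stronglyClosed_mem hCsc hf hx hxV.1,
            stronglyClosed_mem hQsc hf hx hxV.2⟩)
    · intro i hi x hx q hq
      interval_cases i
      · simp only [if_pos, Subgroup.mem_bot] at hx ⊢
        simp at hx
        exact commutatorElement_eq_one_iff_mul_comm.mpr (hq.1.2 x hx.2)
      · simp at hx ⊢
        have hxS := hCsc.1 hx.1
        have hqS := hCsc.1 hq.1
        refine ⟨?_, ?_⟩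
        · rw [commutatorElement_def]
          exact C.mul_mem (C.mul_mem (C.mul_mem hx.1 hq.1) (C.inv_mem hx.1)) (C.inv_mem hq.1)
        · obtain ⟨-, hxK⟩ := mem_preimage_iff.mp hx.2
          refine (extHom_eq_one hk (show ⁅x, q⁆ ∈ S by
            rw [commutatorElement_def]
            exact S.mul_mem (S.mul_mem (S.mul_mem hxS hqS) (S.inv_mem hxS)) (S.inv_mem hqS))).mp ?_
          rw [commutatorElement_def, extHom_mul θ (S.mul_mem (S.mul_mem hxS hqS) (S.inv_mem hxS))
              (S.inv_mem hqS), extHom_mul θ (S.mul_mem hxS hqS) (S.inv_mem hxS),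
            extHom_mul θ hxS hqS, extHom_inv θ hxS, extHom_inv θ hqS,
            ← Subgroup.mem_center_iff.mp hxK (extHom θ q)]
          group
  -- a nontrivial normal subgroup of a `p`-group meets the centre
  set Cb := imageAlong θ C with hCb
  haveI : Cb.Normal := by
    refine ⟨fun y hy t => ?_⟩
    obtain ⟨x, hx, rfl⟩ := (mem_imageAlong (hP := hCsc.1)).mp hy
    obtain ⟨s, hs, rfl⟩ := exists_preimage hE (le_refl (⊤ : Subgroup (S ⧸ Q.subgroupOf S))) (Subgroup.mem_top t)
    have hsS : s ∈ S := preimageAlong_le θ hs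
    have hxS : x ∈ S := hCsc.1 hx
    refine (mem_imageAlong (hP := hCsc.1)).mpr ⟨s * x * s⁻¹,
      (Subgroup.mem_normalizer_iff.mp (stronglyClosed_normalizer hCsc hsS) x).mp hx, ?_⟩
    rw [extHom_mul θ (S.mul_mem hsS hxS) (S.inv_mem hsS), extHom_mul θ hsS hxS, extHom_inv θ hsS]
  haveI : Group.IsNilpotent (S ⧸ Q.subgroupOf S) := (hS.to_quotient _).isNilpotent
  have hCb1 : Cb ≠ ⊥ := fun h => hCQ fun x hx =>
    (extHom_eq_one hk (hCsc.1 hx)).mp (Subgroup.mem_bot.mp
      (h ▸ (mem_imageAlong (hP := hCsc.1)).mpr ⟨x, hx, rfl⟩))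
  refine S0065.result Cb hCb1 (le_bot_iff.mp ?_)
  rintro y ⟨hy, hyz⟩
  obtain ⟨x, hx, rfl⟩ := (mem_imageAlong (hP := hCsc.1)).mp hy
  exact Subgroup.mem_bot.mpr ((extHom_eq_one hk (hCsc.1 hx)).mpr
    ((le_sSup hVn : V ≤ Q) ⟨hx, mem_preimage_iff.mpr ⟨hCsc.1 hx, hyz⟩⟩))

end Cfsg.Agent.FusionZJ
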