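import Cfsg.Agent.FusionZJ.CenterGroup

/-!
Glauberman's weak closure theorem for a functor with quadratic elements, for odd primes.
-/

set_option autoImplicit false

namespace Cfsg.Agent.FusionZJ

open Cfsg Cfsg.Agent
open scoped commutatorElement

universe u

variable {p : ℕ} [Fact p.Prime]

/-- For an odd prime, an element central in a Sylow subgroup of a constrained group and fixed by the
normalizer of `W` is central, when quadratic elements exist wherever `W` is not normal. -/
theorem center_fixed_of_quadratic (hp : p ≠ 2) (W : ∀ (Q : Type u) [Group Q], Subgroup Q)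
    (hW2 : ∀ (Q R : Type u) [Group Q] [Group R] [Finite Q], IsPGroup p Q → ∀ φ : Q ≃* R,
      (W Q).map φ.toMonoidHom = W R)
    (hq : ∀ (G : Type u) [Group G] [Finite G] (P : Sylow p G),
      ¬ (((W ↥(P : Subgroup G)).map (P : Subgroup G).subtype : Subgroup G)).Normal →
      ∃ g : G, g ∈ (P : Subgroup G) ∧ g ∉ pCore p G ∧
        ⁅⁅(Subgroup.center ↥(pCore p G)).map (pCore p G).subtype, Subgroup.zpowers g⁆,
          Subgroup.zpowers g⁆ = ⊥) :
    ∀ (G : Type u) [Group G] [Finite G] (P : Sylow p G),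
      Subgroup.centralizer ((pCore p G : Subgroup G) : Set G) ≤ pCore p G →
      ∀ z : G, z ∈ P → (∀ a ∈ P, a * z = z * a) →
      (∀ g ∈ Subgroup.normalizer ((wOf W (P : Subgroup G)) : Set G), g * z * g⁻¹ = z) →
      ∀ g : G, g * z * g⁻¹ = z := by
  intro G
  induction hn : Nat.card G using Nat.strong_induction_on generalizing G with
  | _ n IH =>
  intro _ _ P hC z hzP hzc hN
  subst hn
  classical
  set O := pCore p G with hO
  have hOP : O ≤ P := Core.pCore_le_sylow P
  have hzO : z ∈ O := hC fun o ho => hzc o (hOP ho)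
  set A := (Subgroup.center ↥O).map O.subtype with hA
  have hAmem : ∀ a, a ∈ A ↔ a ∈ O ∧ ∀ o ∈ O, o * a = a * o := fun a =>
    ⟨fun ⟨b, hb, e⟩ => e ▸ ⟨b.2, fun o ho =>
      congrArg Subtype.val (Subgroup.mem_center_iff.mp hb ⟨o, ho⟩)⟩,
      fun h => ⟨⟨a, h.1⟩, Subgroup.mem_center_iff.mpr fun o => Subtype.ext (h.2 o o.2), rfl⟩⟩
  have hzA : z ∈ A := (hAmem z).mpr ⟨hzO, fun o ho => hzc o (hOP ho)⟩
  haveI hAn : A.Normal := by rw [hA]; infer_instance
  have hAab : ∀ x ∈ A, ∀ y ∈ A, x * y = y * x :=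
    fun x hx y hy => ((hAmem y).mp hy).2 x ((hAmem x).mp hx).1
  have hAP : A ≤ P := fun a ha => hOP ((hAmem a).mp ha).1
  set C := Subgroup.centralizer (A : Set G) with hCdef
  haveI hCn : C.Normal := by rw [hCdef]; infer_instance
  have hOC : O ≤ C := fun o ho a ha => (((hAmem a).mp ha).2 o ho).symm
  -- proper overgroups of the Sylow subgroup fix the element
  have hprop : ∀ K : Subgroup G, (P : Subgroup G) ≤ K → K ≠ ⊤ → ∀ g ∈ K, g * z * g⁻¹ = z := by
    intro K hPK hKtop g hg
    have hlt : Nat.card K < Nat.card G := lt_of_le_of_ne (Subgroup.card_le_card_group K)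
      fun h => hKtop (Subgroup.eq_top_of_card_eq K h)
    set P' : Sylow p K := P.subtype hPK with hP'
    have hP'map : (P' : Subgroup K).map K.subtype = (P : Subgroup G) := by
      rw [hP', Sylow.coe_subtype, Subgroup.subgroupOf_map_subtype, inf_eq_left.mpr hPK]
    have hCK : Subgroup.centralizer ((pCore p K : Subgroup K) : Set K) ≤ pCore p K := by
      have hle : O.subgroupOf K ≤ pCore p K := Core.le_pCore inferInstance
        ((Core.isPGroup_pCore p G).comap_subtype)
      intro x hx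
      refine hle (hC fun o ho => ?_)
      exact congrArg Subtype.val (hx ⟨o, hPK (hOP ho)⟩ (hle ho))
    have h1 := IH _ hlt ↥K rfl P' hCK
      ⟨z, hPK hzP⟩ hzP (fun a ha => Subtype.ext (hzc a ha))
      (fun k hk => Subtype.ext (hN (k : G) (by
        rw [← hP'map, wOf_map W hW2 K.subtype K.subtype_injective _ P'.isPGroup']
        exact Subgroup.le_normalizer_map K.subtype ⟨k, hk, rfl⟩))) ⟨g, hg⟩
    exact congrArg Subtype.val h1
  -- a normal subgroup, a `p`-group over the centralizer, not inside the core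
  have key : ∀ U : Subgroup G, U.Normal → C ≤ U → (∀ x ∈ U, ∃ k : ℕ, x ^ p ^ k ∈ C) →
      (∃ w ∈ (P : Subgroup G), w ∈ U ∧ w ∉ O) → ∀ g : G, g * z * g⁻¹ = z := by
    rintro U hU hCU hUp ⟨w, hwP, hwU, hwO⟩ g
    haveI := hU
    set D : Subgroup G := (P : Subgroup G) ⊓ U with hD
    set K : Subgroup G := Subgroup.normalizer (D : Set G) with hK
    have hPK : (P : Subgroup G) ≤ K := fun x hx => by
      have h1 : ∀ x ∈ (P : Subgroup G), ∀ y ∈ D, x * y * x⁻¹ ∈ D := fun x hx y hy =>
        ⟨(P : Subgroup G).mul_mem ((P : Subgroup G).mul_mem hx hy.1) ((P : Subgroup G).inv_mem hx),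
          hU.conj_mem y hy.2 x⟩
      refine Subgroup.mem_normalizer_iff.mpr fun y => ⟨h1 x hx y, fun hy => ?_⟩
      have := h1 x⁻¹ (inv_mem hx) _ hy
      simpa [mul_assoc] using this
    have hKtop : K ≠ ⊤ := fun h => hwO (Core.le_pCore (Subgroup.normalizer_eq_top_iff.mp h)
      (P.isPGroup'.to_le inf_le_left) ⟨hwP, hwU⟩)
    have hk : ∃ k, C.relIndex U ∣ p ^ k := by
      have hq : IsPGroup p (U ⧸ C.subgroupOf U) := by
        intro q
        induction q using QuotientGroup.induction_on with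
        | _ x =>
          obtain ⟨k, hk⟩ := hUp x x.2
          refine ⟨k, ?_⟩
          rw [← QuotientGroup.mk_pow]
          exact (QuotientGroup.eq_one_iff _).mpr (by simpa [Subgroup.mem_subgroupOf] using hk)
      obtain ⟨k, hk⟩ := IsPGroup.iff_card.mp hq
      exact ⟨k, by rw [Subgroup.relIndex, Subgroup.index_eq_card, hk]⟩
    have htop := PLocal.normalizer_inf_sup_eq_top P U C hCU hk
    have hg : g ∈ C ⊔ K := htop ▸ Subgroup.mem_top g
    obtain ⟨c, hc, x, hx, rfl⟩ := Subgroup.mem_sup_of_normal_left.mp hg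
    calc c * x * z * (c * x)⁻¹ = c * (x * z * x⁻¹) * c⁻¹ := by group
      _ = c * z * c⁻¹ := by rw [hprop K hPK hKtop x hx]
      _ = z := by rw [← hc z hzA, mul_inv_cancel_right]
  by_cases hPC : ∃ w ∈ (P : Subgroup G), w ∈ C ∧ w ∉ O
  · exact key C hCn le_rfl (fun x hx => ⟨0, by simpa using hx⟩) hPC
  push Not at hPC
  by_cases hWn : (wOf W (P : Subgroup G)).Normal
  · intro g
    exact hN g (Subgroup.normalizer_eq_top_iff.mpr hWn ▸ Subgroup.mem_top g)
  have hzp : ∀ g : G, g * z ^ p * g⁻¹ = z ^ p :=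
    pow_fixed_of_quadratic W hW2 hq G P hC z hzP hzc
      fun g hg => by rw [← conj_pow, hN g hg]
  -- the action on `A`
  letI : CommGroup A :=
    { (inferInstance : Group A) with mul_comm := fun x y => Subtype.ext (hAab x x.2 y y.2) }
  letI : MulDistribMulAction G A :=
    MulDistribMulAction.compHom A (MulAut.conjNormal : G →* MulAut A)
  have hsmul : ∀ (g : G) (a : A), ((g • a : A) : G) = g * a * g⁻¹ := fun g a => rfl
  have hker : ∀ b : G, (∀ a : A, b • a = a) ↔ b ∈ C := fun b => by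
    constructor
    · intro h a ha
      have := congrArg Subtype.val (h ⟨a, ha⟩)
      rw [hsmul] at this
      exact (mul_inv_eq_iff_eq_mul.mp this).symm
    · intro h a
      refine Subtype.ext ?_
      rw [hsmul, ← h a a.2, mul_inv_cancel_right]
  have finish : ∀ B ≤ (P : Subgroup G), ¬ B ≤ C → Annih p A B → ∀ g : G, g * z * g⁻¹ = z := by
    intro B hBP hBC hAnn
    set D : Set (Subgroup G) :=
      {B' | (∃ g : G, B.map (MulAut.conj g).toMonoidHom = B') ∧ B' ≤ P} with hD
    have hclosed : ∀ (x : G), ∀ B' ∈ D, B'.map (MulAut.conj x).toMonoidHom ≤ P →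
        B'.map (MulAut.conj x).toMonoidHom ∈ D := by
      rintro x B' ⟨⟨g, rfl⟩, -⟩ hle
      refine ⟨⟨x * g, ?_⟩, hle⟩
      rw [Subgroup.map_map]
      congr 1
      ext y
      simp [mul_assoc]
    set J₀ := sSup D with hJ₀
    have hJ₀P : J₀ ≤ P := sSup_le fun B' hB' => hB'.2
    have hmapJ : ∀ x : G, (∀ B' ∈ D, B'.map (MulAut.conj x).toMonoidHom ≤ P) →
        x ∈ Subgroup.normalizer (J₀ : Set G) := by
      intro x hx
      refine Subgroup.mem_normalizer_iff_map_conj_eq.mpr (Subgroup.eq_of_le_of_card_ge ?_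
        (Subgroup.card_map_of_injective (K := J₀) (f := (MulAut.conj x).toMonoidHom)
          (MulAut.conj x).injective).ge)
      refine Subgroup.map_le_iff_le_comap.mpr (sSup_le fun B' hB' => ?_)
      exact Subgroup.map_le_iff_le_comap.mp (le_sSup (hclosed x B' hB' (hx B' hB')))
    have hPN : (P : Subgroup G) ≤ Subgroup.normalizer (J₀ : Set G) := fun x hx =>
      hmapJ x fun B' hB' => by
        rintro _ ⟨y, hy, rfl⟩
        exact (P : Subgroup G).mul_mem ((P : Subgroup G).mul_mem hx (hB'.2 hy))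
          ((P : Subgroup G).inv_mem hx)
    have hNtop : Subgroup.normalizer (J₀ : Set G) ≠ ⊤ := fun h => hBC fun b hb => hOC
      (Core.le_pCore (Subgroup.normalizer_eq_top_iff.mp h) (P.isPGroup'.to_le hJ₀P)
        (le_sSup (s := D) ⟨⟨1, by ext; simp⟩, hBP⟩ hb))
    set H := Subgroup.centralizer ({z} : Set G) with hH
    have hmemH : ∀ g, g ∈ H ↔ g * z * g⁻¹ = z := fun g => by
      rw [hH, Subgroup.mem_centralizer_singleton_iff, mul_inv_eq_iff_eq_mul]
    have hPH : (P : Subgroup G) ≤ H := fun x hx => Subgroup.mem_centralizer_singleton_iff.mpr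
      (hzc x hx)
    have hall := fixed_of_family (A := A) (z := (⟨z, hzA⟩ : A)) P
      (fun x hx => Subtype.ext (by rw [hsmul]; exact (hmemH x).mp (hPH hx)))
      (fun g => Subtype.ext (by rw [hsmul, SubmonoidClass.coe_pow]; exact hzp g)) D
      (fun B' hB' => hB'.2) (fun B' hB' => by
        obtain ⟨⟨g, rfl⟩, -⟩ := hB'
        exact annih_map_conj hAnn g) ?_
    · intro g
      exact (hsmul g ⟨z, hzA⟩).symm.trans (congrArg Subtype.val (hall g))
    intro g hg
    by_contra hallfix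
    push Not at hallfix
    refine hg (Subtype.ext ?_)
    rw [hsmul]
    set J₁ := J₀.map (MulAut.conj g⁻¹).toMonoidHom with hJ₁
    have hJ₁H : J₁ ≤ H := by
      refine Subgroup.map_le_iff_le_comap.mpr (sSup_le fun B' hB' b hb => ?_)
      show g⁻¹ * b * g⁻¹⁻¹ ∈ H
      rw [hmemH]
      have h1 := congrArg Subtype.val (hallfix B' hB' b hb)
      rw [hsmul, hsmul] at h1
      simp only at h1
      calc g⁻¹ * b * g⁻¹⁻¹ * z * (g⁻¹ * b * g⁻¹⁻¹)⁻¹
          = g⁻¹ * (b * (g * z * g⁻¹) * b⁻¹) * g := by group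
        _ = z := by rw [h1]; group
    set P' : Sylow p H := P.subtype hPH
    obtain ⟨Q, hQ⟩ := IsPGroup.exists_le_sylow (p := p) (P := J₁.subgroupOf H)
      (((P.isPGroup'.to_le hJ₀P).map _).of_equiv (Subgroup.subgroupOfEquivOfLe hJ₁H).symm)
    obtain ⟨h, hh⟩ := MulAction.exists_smul_eq H Q P'
    set x := (h : G) * g⁻¹ with hx
    have hxN : x ∈ Subgroup.normalizer (J₀ : Set G) := hmapJ x fun B' hB' => by
      rintro _ ⟨b, hb, rfl⟩
      have hbJ : g⁻¹ * b * g⁻¹⁻¹ ∈ J₁ := Subgroup.mem_map_of_mem _ (le_sSup hB' hb)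
      have hmem : h * ⟨_, hJ₁H hbJ⟩ * h⁻¹ ∈ ((h • Q : Sylow p H) : Subgroup H) := by
        rw [Sylow.coe_subgroup_smul]
        exact Subgroup.smul_mem_pointwise_smul _ (MulAut.conj h) _ (hQ hbJ)
      rw [hh] at hmem
      show x * b * x⁻¹ ∈ (P : Subgroup G)
      rw [show x * b * x⁻¹ = (h : G) * (g⁻¹ * b * g⁻¹⁻¹) * (h : G)⁻¹ by rw [hx]; group]
      exact hmem
    have hxz := hprop _ hPN hNtop x hxN
    have hhz := (hmemH _).mp h.2
    have h2 : g⁻¹ * z * g = z := by
      calc g⁻¹ * z * g = (h : G)⁻¹ * (x * z * x⁻¹) * h := by rw [hx]; group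
        _ = (h : G)⁻¹ * z * h := by rw [hxz]
        _ = (h : G)⁻¹ * ((h : G) * z * (h : G)⁻¹) * h := by rw [hhz]
        _ = z := by group
    show g * z * g⁻¹ = z
    calc g * z * g⁻¹ = g * (g⁻¹ * z * g) * g⁻¹ := by rw [h2]
      _ = z := by group
  obtain ⟨u, huP, huO, hquad⟩ := hq G P hWn
  have huC : u ∉ C := fun h => huO (hPC u huP h)
  have hex : ∃ i, u ^ p ^ i ∈ C := by
    obtain ⟨i, hi⟩ := P.isPGroup' ⟨u, huP⟩
    exact ⟨i, by rw [show u ^ p ^ i = 1 from congrArg Subtype.val hi]; exact C.one_mem⟩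
  obtain ⟨i, hi⟩ : ∃ i, Nat.find hex = i + 1 := by
    refine ⟨Nat.find hex - 1, (Nat.succ_pred_eq_of_ne_zero fun h => huC ?_).symm⟩
    simpa [h] using Nat.find_spec hex
  set v := u ^ p ^ i with hv
  have hvC : v ∉ C := Nat.find_min hex (by omega)
  have hvp : v ^ p ∈ C := by
    rw [hv, ← pow_mul, ← pow_succ, ← hi]; exact Nat.find_spec hex
  have hvu : v ∈ Subgroup.zpowers u := Subgroup.npow_mem_zpowers u _
  refine finish (Subgroup.zpowers v) (Subgroup.zpowers_le.mpr (pow_mem huP _))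
    (fun h => hvC (h (Subgroup.mem_zpowers v)))
    (annih_zpowers hp ((hker _).mpr hvp) fun a => Subtype.ext ?_)
  rw [hsmul]
  have hc : ((v • a / a : A) : G) = ⁅v, (a : G)⁆ := by
    rw [div_eq_mul_inv, Subgroup.coe_mul, hsmul, Subgroup.coe_inv, commutatorElement_def]
  rw [hc]
  have hmem : ⁅v, (a : G)⁆ ∈ ⁅A, Subgroup.zpowers u⁆ := by
    rw [Subgroup.commutator_comm]
    exact Subgroup.commutator_mem_commutator hvu a.2
  have h1 : ⁅⁅v, (a : G)⁆, v⁆ = 1 := by
    rw [← Subgroup.mem_bot, ← hquad]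
    exact Subgroup.commutator_mem_commutator hmem hvu
  rw [← commutatorElement_eq_one_iff_mul_comm.mp h1, mul_inv_cancel_right]

end Cfsg.Agent.FusionZJ
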